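import Groth.Agent.L21.OpenSt.Locus
import Groth.Agent.L23.LocalDimEtale
import Groth.Agent.L23.FibreDimBC
import Groth.Prelude.Def_StCurv2

/-!
Adding a condition on the dimension of the fibre to a pointwise condition.
-/

set_option autoImplicit false
set_option backward.isDefEq.respectTransparency false

universe u

open CategoryTheory CategoryTheory.Limits AlgebraicGeometry AlgSp

noncomputable section

namespace Groth.L21.OpenSt

/-- The condition together with a value for the dimension of the fibre. -/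
def dimCond (Φ : PtCond.{u}) (n : ℕ) : PtCond.{u} :=
  fun _ _ g x => Φ g x ∧ FlatMor.fibreDimAt g x = (n : WithBot ℕ∞)

theorem dimCond_good {Φ : PtCond.{u}} (hΦ : Φ.Good) (n : ℕ)
    (hloc : ∀ {X Y : Scheme.{u}} (g : X ⟶ Y) [Flat g] [LocallyOfFinitePresentation g],
      (∀ x, Φ g x) → IsLocallyConstant fun x : X => FlatMor.fibreDimAt g x) :
    (dimCond Φ n).Good where
  source e g _ _ _ x := and_congr (hΦ.source e g x) (by rw [Groth.L23.fibreDimAt_etale_comp e g x])
  target g φ _ _ _ x := and_congr (hΦ.target g φ x) (by rw [Groth.L23.fibreDimAt_comp_etale g φ x])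
  baseChange := fun {_ _ _ _ f b f' b'} _ _ sq x =>
    and_congr (hΦ.baseChange sq x) (by rw [Groth.L23.fibreDimAt_of_isPullback sq x])
  isOpen g _ _ := by
    let U : Scheme.Opens _ := ⟨{x | Φ g x}, hΦ.isOpen g⟩
    have hU : ∀ x, Φ (U.ι ≫ g) x := fun x => (hΦ.source U.ι g x).2 x.2
    have h : {x | dimCond Φ n g x} =
        U.ι '' {x | FlatMor.fibreDimAt (U.ι ≫ g) x = (n : WithBot ℕ∞)} := by
      ext x
      constructor
      · intro hx
        exact ⟨⟨x, hx.1⟩, (Groth.L23.fibreDimAt_etale_comp U.ι g ⟨x, hx.1⟩).trans hx.2, rfl⟩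
      · rintro ⟨y, hy, rfl⟩
        exact ⟨y.2, (Groth.L23.fibreDimAt_etale_comp U.ι g y).symm.trans hy⟩
    rw [h]
    exact U.ι.isOpenEmbedding.isOpenMap _ ((hloc (U.ι ≫ g) hU).isOpen_fiber _)

/-- The two conditions can be read separately. -/
theorem locP_dimCond_iff {Φ : PtCond.{u}} {n : ℕ} (hΦn : (dimCond Φ n).Good) {S : Scheme.{u}} {X : Sp S}
    {T : Over S} {f : X ⟶ (yon S).obj T} (hX : IsAlgSpace X) (hf : LocP @Flat f)
    (hf' : LocP @LocallyOfFinitePresentation f) :
    (LocP (Everywhere Φ) f ∧ ∀ x : Points X,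
      HasAtMor (fun _ _ h u => FlatMor.fibreDimAt h u = (n : WithBot ℕ∞)) f x) ↔
      LocP (Everywhere (dimCond Φ n)) f := by
  obtain ⟨A⟩ := exists_atl (f := f) hX
  rw [locP_iff hΦn hf hf' A]
  constructor
  · rintro ⟨h1, h2⟩ v
    obtain ⟨U, V, a, b, k, w, ha, hb, e, hw, hk⟩ := h2 (Points.ofPt A.a v)
    exact (cond_iff_of_eq hΦn hf hf' A ha hb e w v hw).1 ⟨h1 a b k ha hb e w, hk⟩
  · intro h
    refine ⟨fun U V a b k ha hb e w => ?_, fun x => ?_⟩
    · exact ((locP_iff hΦn hf hf' A).2 h a b k ha hb e w).1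
    · obtain ⟨v, rfl⟩ := Groth.L23.surjective_ofPt A.surj x
      exact ⟨A.W, T, A.a, 𝟙 _, A.g, v, A.etale, repWith_id _ T, by rw [A.w, Category.comp_id], rfl, (h v).2⟩

end Groth.L21.OpenSt
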