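import Groth.Agent.L21.OpenSt.Locus
import Groth.Agent.L21.OpenSt.RelDim
import Groth.Agent.L20.SmoothAt.Global
import Groth.Agent.L23.LocP
import Groth.Agent.S2155
import Groth.Agent.S2768

/-!
Smoothness at a point as a pointwise condition on families.
-/

set_option autoImplicit false
set_option backward.isDefEq.respectTransparency false

universe u

open CategoryTheory CategoryTheory.Limits AlgebraicGeometry

noncomputable section

namespace Groth.L21.OpenSt

variable {X' X Y Z : Scheme.{u}}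

theorem exists_smooth_source_iff (e : X' ⟶ X) [Etale e] (g : X ⟶ Y) (x : X') :
    (∃ U : X'.Opens, x ∈ U ∧ Smooth (U.ι ≫ e ≫ g)) ↔ ∃ U : X.Opens, e x ∈ U ∧ Smooth (U.ι ≫ g) := by
  constructor
  · rintro ⟨U, hxU, hU⟩
    let W : X.Opens := ⟨⇑e '' U, e.isOpenMap _ U.2⟩
    have hr : Set.range (U.ι ≫ e) ⊆ Set.range W.ι := by
      rintro _ ⟨z, rfl⟩
      rw [Scheme.Opens.range_ι]
      exact ⟨z.1, z.2, rfl⟩
    let χ := IsOpenImmersion.lift W.ι (U.ι ≫ e) hr
    have hχ : χ ≫ W.ι = U.ι ≫ e := IsOpenImmersion.lift_fac _ _ _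
    haveI : Etale (χ ≫ W.ι) := by rw [hχ]; infer_instance
    have he : Etale χ := Etale.of_comp χ W.ι
    have hs : Surjective χ := ⟨fun w => by
      obtain ⟨z, hz, hzw⟩ := w.2
      refine ⟨⟨z, hz⟩, W.ι.isOpenEmbedding.injective ?_⟩
      rw [← Scheme.Hom.comp_apply, hχ]
      exact hzw⟩
    exact ⟨W, ⟨x, hxU, rfl⟩, Groth.L23.etLocal_smooth.source χ (W.ι ≫ g) he hs
      (by rw [← Category.assoc, hχ, Category.assoc]; exact hU)⟩
  · rintro ⟨U, hxU, hU⟩
    refine ⟨e ⁻¹ᵁ U, hxU, ?_⟩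
    rw [← Category.assoc, ← morphismRestrict_ι, Category.assoc]
    infer_instance

theorem exists_smooth_target_iff (g : X ⟶ Y) (φ : Y ⟶ Z) [Etale φ] (x : X) :
    (∃ U : X.Opens, x ∈ U ∧ Smooth (U.ι ≫ g ≫ φ)) ↔ ∃ U : X.Opens, x ∈ U ∧ Smooth (U.ι ≫ g) := by
  refine exists_congr fun U => and_congr_right fun _ => ⟨fun h => ?_, fun h => ?_⟩
  · exact Groth.L23.etLocal_smooth.of_comp_etale (U.ι ≫ g) φ (by rw [Category.assoc]; exact h)
  · rw [← Category.assoc]
    infer_instance

/-- Smoothness at a point. -/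
def smCond : PtCond.{u} := fun _ _ g x => (g.stalkMap x).hom.FormallySmooth

theorem smCond_iff (g : X ⟶ Y) [LocallyOfFinitePresentation g] (x : X) :
    smCond g x ↔ ∃ U : X.Opens, x ∈ U ∧ Smooth (U.ι ≫ g) :=
  Groth.L20.SmoothAt.mem_smoothLocus_iff_exists g x

theorem everywhere_smCond_iff (g : X ⟶ Y) [LocallyOfFinitePresentation g] :
    Everywhere smCond g ↔ Smooth g :=
  ⟨fun h => Scheme.Hom.smoothLocus_eq_top_iff.1 (top_le_iff.1 fun x _ => h x),
    fun _ x => (Scheme.Hom.smoothLocus_eq_top g).ge (Set.mem_univ x)⟩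

theorem smCond_good : PtCond.Good smCond.{u} where
  source e g _ _ _ x := by
    rw [smCond_iff, smCond_iff]
    exact exists_smooth_source_iff e g x
  target g φ _ _ _ x := by
    rw [smCond_iff, smCond_iff]
    exact exists_smooth_target_iff g φ x
  baseChange := fun {_ _ _ _ f b f' b'} hf _ sq x => by
    haveI : LocallyOfFinitePresentation f' := MorphismProperty.of_isPullback sq inferInstance
    exact SetLike.ext_iff.1 (Groth.Agent.S2155.result f b f' b' sq (Or.inl hf)) x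
  isOpen g _ _ := g.isOpen_smoothLocus

/-- A smooth morphism with fibres of dimension `n` is smooth of relative dimension `n`. -/
theorem smoothOfRelativeDimension_iff (n : ℕ) (g : X ⟶ Y) :
    SmoothOfRelativeDimension n g ↔ Smooth g ∧ ∀ x, FlatMor.fibreDimAt g x = (n : WithBot ℕ∞) := by
  refine ⟨fun h => ⟨SmoothOfRelativeDimension.smooth n g, fun x => Groth.L20.SmoothDim.main n g x⟩, ?_⟩
  rintro ⟨hg, hd⟩
  refine ⟨fun x => ?_⟩
  obtain ⟨U, hU, V, hV, hx, e, hs⟩ := Smooth.exists_isStandardSmooth g x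
  obtain ⟨m, hm⟩ : ∃ m, RingHom.IsStandardSmoothOfRelativeDimension m (g.appLE U V e).hom := by
    algebraize [(g.appLE U V e).hom]
    obtain ⟨ι, σ, _, _, ⟨P⟩⟩ := (inferInstance : Algebra.IsStandardSmooth Γ(Y, U) Γ(X, V)).out
    exact ⟨P.dimension, P.isStandardSmoothOfRelativeDimension rfl⟩
  haveI : SmoothOfRelativeDimension m (Spec.map (g.appLE U V e)) := by
    rw [HasRingHomProperty.Spec_iff (P := @SmoothOfRelativeDimension m)]
    exact RingHom.locally_of RingHom.isStandardSmoothOfRelativeDimension_respectsIso _ hm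
  obtain ⟨z, rfl⟩ : x ∈ Set.range hV.fromSpec := by rw [hV.range_fromSpec]; exact hx
  have h1 := hd (hV.fromSpec z)
  rw [Groth.L07.SyntDim.fibreDimAt_congr g (Spec.map (g.appLE U V e)) hV.fromSpec hU.fromSpec
    (IsAffineOpen.SpecMap_appLE_fromSpec g hU hV e).symm z, Groth.L20.SmoothDim.main m _ z] at h1
  obtain rfl : m = n := by exact_mod_cast h1
  exact ⟨U, hU, V, hV, hx, e, hm⟩

end Groth.L21.OpenSt
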