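import Groth.Agent.L21.OpenSt.Locus
import Groth.Agent.L21.GorensteinCharts
import Groth.Agent.L02.CMMor.BaseChange
import Groth.Agent.S4961

/-!
The Cohen–Macaulay condition at a point as a pointwise condition on families.
-/

set_option autoImplicit false
set_option backward.isDefEq.respectTransparency false
set_option linter.style.haveILetI false

universe u

open CategoryTheory CategoryTheory.Limits AlgebraicGeometry IsLocalRing

noncomputable section

namespace Groth.L21.OpenSt

open L02.CMMor

variable {X Y Z : Scheme.{u}}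

/-- An etale morphism before a flat morphism does not change the Cohen–Macaulay property at a point. -/
theorem isCMAt_etale_comp_iff (p : X ⟶ Y) [Etale p] (h : Y ⟶ Z) [Flat h] [LocallyOfFinitePresentation h] (x : X) :
    MoreMor.IsCMAt (p ≫ h) x ↔ MoreMor.IsCMAt h (p x) := by
  refine and_congr (iff_of_true (Flat.stalkMap (p ≫ h) x) (Flat.stalkMap h (p x))) ?_
  let A := Z.presheaf.stalk (h (p x))
  let B := Y.presheaf.stalk (p x)
  let C := X.presheaf.stalk x
  letI iAB : Algebra A B := (h.stalkMap (p x)).hom.toAlgebra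
  letI iBC : Algebra B C := (p.stalkMap x).hom.toAlgebra
  letI iAC : Algebra A C := ((p ≫ h).stalkMap x).hom.toAlgebra
  haveI : IsScalarTower A B C := IsScalarTower.of_algebraMap_eq' (by
    show ((p ≫ h).stalkMap x).hom = _
    rw [Scheme.Hom.stalkMap_comp]
    rfl)
  haveI : IsLocalHom (algebraMap A B) := inferInstanceAs (IsLocalHom (h.stalkMap (p x)).hom)
  haveI : IsLocalHom (algebraMap B C) := inferInstanceAs (IsLocalHom (p.stalkMap x).hom)
  haveI : IsLocalHom (algebraMap A C) := inferInstanceAs (IsLocalHom ((p ≫ h).stalkMap x).hom)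
  haveI : Module.Flat B C := Flat.stalkMap p x
  haveI : LocallyOfFiniteType (h.fiberToSpecResidueField (h (p x))) :=
    (inferInstance : LocallyOfFiniteType (pullback.snd h (Z.fromSpecResidueField (h (p x)))))
  haveI : LocallyOfFiniteType ((p ≫ h).fiberToSpecResidueField ((p ≫ h) x)) :=
    (inferInstance : LocallyOfFiniteType (pullback.snd (p ≫ h) (Z.fromSpecResidueField ((p ≫ h) x))))
  haveI := LocallyOfFiniteType.isLocallyNoetherian (h.fiberToSpecResidueField (h (p x)))
  haveI := LocallyOfFiniteType.isLocallyNoetherian ((p ≫ h).fiberToSpecResidueField ((p ≫ h) x))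
  haveI : IsNoetherianRing (EGA4.FibRing A B) := GorensteinScheme.isNoetherianRing_fibRing h (p x)
  haveI : IsNoetherianRing (EGA4.FibRing A C) := GorensteinScheme.isNoetherianRing_fibRing (p ≫ h) x
  haveI : Nontrivial (EGA4.FibRing A B) := EGA4.mB_ne_top_nontrivial A B
  haveI : IsLocalRing (EGA4.FibRing A B) := IsLocalRing.of_surjective' _ Ideal.Quotient.mk_surjective
  haveI : Nontrivial (EGA4.FibRing A C) := EGA4.mB_ne_top_nontrivial A C
  haveI : IsLocalRing (EGA4.FibRing A C) := IsLocalRing.of_surjective' _ Ideal.Quotient.mk_surjective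
  obtain ⟨i, it, hff, hmax'⟩ := GorensteinCharts.flat_fibRing_and_map (A := A) (B := B) (C := C)
  have hmax := hmax' (GorensteinCharts.map_maximalIdeal_of_etale p x)
  letI := i
  haveI := it
  haveI := hff
  haveI : IsLocalHom (algebraMap (EGA4.FibRing A B) (EGA4.FibRing A C)) :=
    ((IsLocalRing.local_hom_TFAE (algebraMap (EGA4.FibRing A B) (EGA4.FibRing A C))).out 0 2).2 hmax.le
  rw [← cm_fibre_iff (p ≫ h) x, ← cm_fibre_iff h (p x)]
  have hF : LocCoh.IsCohenMacaulayLocalRing (EGA4.FibRing (EGA4.FibRing A B) (EGA4.FibRing A C)) := by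
    let e : EGA4.FibRing (EGA4.FibRing A B) (EGA4.FibRing A C) ≃+*
        (EGA4.FibRing A C ⧸ maximalIdeal (EGA4.FibRing A C)) := Ideal.quotEquivOfEq hmax
    haveI : IsNoetherianRing (EGA4.FibRing A C ⧸ maximalIdeal (EGA4.FibRing A C)) := inferInstance
    haveI : IsLocalRing (EGA4.FibRing A C ⧸ maximalIdeal (EGA4.FibRing A C)) :=
      IsLocalRing.of_surjective' _ Ideal.Quotient.mk_surjective
    refine cm_of_ringEquiv e.symm (cm_of_dim_le_zero ?_)
    exact (ringKrullDim_eq_zero_of_isField ((Ideal.Quotient.maximal_ideal_iff_isField_quotient _).1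
      inferInstance)).le
  exact ⟨fun hC => ((cm_iff_of_flat (EGA4.FibRing A B) (EGA4.FibRing A C)).1 hC).1,
    fun hB => (cm_iff_of_flat (EGA4.FibRing A B) (EGA4.FibRing A C)).2 ⟨hB, hF⟩⟩

/-- An etale morphism after does not change the Cohen–Macaulay property at a point. -/
theorem isCMAt_comp_etale_iff (f : X ⟶ Y) (g : Y ⟶ Z) [Etale g] (x : X) :
    MoreMor.IsCMAt (f ≫ g) x ↔ MoreMor.IsCMAt f x := by
  refine and_congr (Groth.L23.flat_stalkMap_comp_etale_iff f g x) ?_
  let A := Z.presheaf.stalk (g (f x))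
  let B := Y.presheaf.stalk (f x)
  let C := X.presheaf.stalk x
  letI iBC : Algebra B C := (f.stalkMap x).hom.toAlgebra
  letI iAC : Algebra A C := ((f ≫ g).stalkMap x).hom.toAlgebra
  have e : EGA4.mB A C = EGA4.mB B C := by
    show (maximalIdeal A).map ((f ≫ g).stalkMap x).hom = (maximalIdeal B).map (f.stalkMap x).hom
    refine (congrArg (fun (t : Z.presheaf.stalk (g (f x)) ⟶ X.presheaf.stalk x) => (maximalIdeal A).map t.hom)
      (Scheme.Hom.stalkMap_comp f g x)).trans ?_
    exact (Ideal.map_map (g.stalkMap (f x)).hom (f.stalkMap x).hom).symm.trans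
      (congrArg (Ideal.map (f.stalkMap x).hom) (GorensteinCharts.map_maximalIdeal_of_etale g (f x)))
  refine (cm_fibre_iff (f ≫ g) x).symm.trans (Iff.trans ?_ (cm_fibre_iff f x))
  exact ⟨cm_of_ringEquiv (Ideal.quotEquivOfEq e), cm_of_ringEquiv (Ideal.quotEquivOfEq e.symm)⟩

/-- The Cohen–Macaulay condition. -/
def cmCond : PtCond.{u} := fun _ _ g x => MoreMor.IsCMAt g x

theorem cmCond_good : PtCond.Good cmCond.{u} where
  source e g _ _ _ x := isCMAt_etale_comp_iff e g x
  target g φ _ _ _ x := isCMAt_comp_etale_iff g φ x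
  baseChange := fun {_ _ _ _ f b f' b'} _ _ sq x => isCMAt_baseChange f b f' b' sq x
  isOpen g _ _ := Groth.Agent.S4961.result g

end Groth.L21.OpenSt
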