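import Groth.Agent.L21.OpenSt.Locus
import Groth.Agent.L16.ProjSpace.Basic
import Groth.Agent.L23.MorCalc
import Groth.Agent.S2768
import Mathlib.AlgebraicGeometry.AlgClosed.Basic

/-!
The projective line over a field as an object of the stack of curves.
-/

set_option autoImplicit false
set_option backward.isDefEq.respectTransparency false
set_option backward.isDefEq.respectTransparency.types false

universe u

open CategoryTheory CategoryTheory.Limits AlgebraicGeometry AlgSp

noncomputable section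

namespace Groth.L21.OpenSt

open Groth.L23

variable {S : Scheme.{u}} (Ω : Type u) [Field Ω] (t : Spec (CommRingCat.of Ω) ⟶ S)

/-- The projective line over a point of the base, as a family of curves. -/
def lineFam : CurvSt.SpFamObj S 0 :=
  (CurvSt.toSpFam S 0).obj
    ⟨Over.mk t, CohB1.ProjSpace 1 Ω, CohB1.ProjSpace.toSpec 1 Ω, Fin.elim0, fun i => i.elim0⟩

/-- The identity atlas of the projective line. -/
def lineAtl : Atl (lineFam Ω t).f where
  W := Over.mk (CohB1.ProjSpace.toSpec 1 Ω ≫ t)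
  a := 𝟙 _
  g := Over.homMk (CohB1.ProjSpace.toSpec 1 Ω) rfl
  etale := repWith_id _ _
  surj := repWith_id _ _
  w := Category.id_comp _

theorem lineAtl_g : (lineAtl Ω t).g.left = CohB1.ProjSpace.toSpec 1 Ω := rfl

theorem fibreDimAt_line (v : ↥(CohB1.ProjSpace 1 Ω)) :
    FlatMor.fibreDimAt (CohB1.ProjSpace.toSpec 1 Ω) v = ((1 : ℕ) : WithBot ℕ∞) :=
  Groth.L20.SmoothDim.main 1 _ v

theorem hasAtMor_line {Q : ∀ (U V : Scheme.{u}), (U ⟶ V) → ↥U → Prop}
    (h : ∀ v, Q _ _ (CohB1.ProjSpace.toSpec 1 Ω) v) (x : Points (lineFam Ω t).X) :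
    HasAtMor Q (lineFam Ω t).f x := by
  obtain ⟨v, rfl⟩ := Groth.L23.surjective_ofPt (lineAtl Ω t).surj x
  exact ⟨_, _, (lineAtl Ω t).a, 𝟙 _, (lineAtl Ω t).g, v, repWith_id _ _, repWith_id _ _,
    by rw [(lineAtl Ω t).w, Category.comp_id], rfl, h v⟩

theorem isCurveFam_line : CurvSt.IsCurveFam (lineFam Ω t) := by
  have hp : RepWith @IsProper (lineFam Ω t).f :=
    (repWith_yon_map_iff @IsProper _).2 (Groth.L16.ProjSpace.isProper_toSpec (n := 1) (R := Ω))
  have hfl : RepWith @Flat (lineFam Ω t).f :=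
    (repWith_yon_map_iff @Flat _).2 (Groth.L16.ProjSpace.flat_toSpec (n := 1) (R := Ω))
  have hlfp : RepWith @LocallyOfFinitePresentation (lineFam Ω t).f :=
    (repWith_yon_map_iff @LocallyOfFinitePresentation _).2 (Groth.L16.ProjSpace.lfp_toSpec (n := 1) (R := Ω))
  refine ⟨IsAlgSpace.yon_obj _, locP_of_repWith etLocal_flat hfl, isProperMor_of_repWith hp,
    ⟨locP_of_repWith etLocal_lfp hlfp,
      isQuasiCompactMor_of_repWith (repWith_mono (fun φ (_ : IsProper φ) => by infer_instance) hp), ?_⟩,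
    fun x => hasAtMor_line Ω t (fun v => (fibreDimAt_line Ω v).le) x⟩
  haveI : IsProper (CohB1.ProjSpace.toSpec 1 Ω) := Groth.L16.ProjSpace.isProper_toSpec (n := 1) (R := Ω)
  exact (isQuasiSeparatedMor_yon_map_iff _).2 (inferInstanceAs (QuasiSeparated (CohB1.ProjSpace.toSpec 1 Ω)))

/-- A substack containing the projective line has an object over the point. -/
theorem nonempty_fiber (Q : (CurvSt.Curves S 0).obj → Prop)
    (h : Q ⟨lineFam Ω t, isCurveFam_line Ω t⟩) :
    Nonempty ((AlgSt.fullSub (CurvSt.Curves S 0) Q).p.Fiber (Over.mk t)) :=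
  ⟨⟨⟨⟨lineFam Ω t, isCurveFam_line Ω t⟩, h⟩, rfl⟩⟩

theorem locP_line {Φ : PtCond.{u}} (hΦ : Φ.Good) (h : ∀ v, Φ (CohB1.ProjSpace.toSpec 1 Ω) v) :
    LocP (Everywhere Φ) (lineFam Ω t).f :=
  (locP_iff hΦ (isCurveFam_line Ω t).2.1 (isCurveFam_line Ω t).2.2.2.1.1 (lineAtl Ω t)).2 h

end Groth.L21.OpenSt
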