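import Groth.Agent.L21.OpenSt.Locus
import Groth.Agent.L21.Nodal.NodalMax
import Groth.Agent.L21.Nodal.FamilyBaseChange
import Groth.Agent.L21.Nodal.PostEtale

/-!
Nodality at a point as a pointwise condition on families.
-/

set_option autoImplicit false
set_option backward.isDefEq.respectTransparency false

universe u

open CategoryTheory CategoryTheory.Limits AlgebraicGeometry TopologicalSpace

noncomputable section

namespace Groth.L21.OpenSt

open Groth.L21.Nodal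

variable {X' X Y Y' Z : Scheme.{u}}

/-- Nodality near a point. -/
def ndCond : PtCond.{u} := fun X _ g x => ∃ U : X.Opens, x ∈ U ∧ Curv2.IsNodalFamily (U.ι ≫ g)

theorem everywhere_ndCond_iff (g : X ⟶ Y) : Everywhere ndCond g ↔ Curv2.IsNodalFamily g := by
  refine ⟨fun h => ?_, fun h x => ⟨⊤, trivial, comp_etale _ _ h⟩⟩
  choose U hxU hU using h
  exact of_etale_cover g (fun x => (U x).toScheme) (fun x => (U x).ι) (fun x => ⟨x, ⟨x, hxU x⟩, rfl⟩) hU

theorem ndCond_source_iff (e : X' ⟶ X) [Etale e] (g : X ⟶ Y) (x : X') : ndCond (e ≫ g) x ↔ ndCond g (e x) := by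
  constructor
  · rintro ⟨U, hxU, hU⟩
    let W : X.Opens := ⟨⇑e '' U, e.isOpenMap _ U.2⟩
    have hr : Set.range (U.ι ≫ e) ⊆ Set.range W.ι := by
      rintro _ ⟨z, rfl⟩
      rw [Scheme.Opens.range_ι]
      exact ⟨z.1, z.2, rfl⟩
    let χ := IsOpenImmersion.lift W.ι (U.ι ≫ e) hr
    have hχ : χ ≫ W.ι = U.ι ≫ e := IsOpenImmersion.lift_fac _ _ _
    haveI : Etale (χ ≫ W.ι) := by rw [hχ]; infer_instance
    haveI : Etale χ := Etale.of_comp χ W.ι
    refine ⟨W, ⟨x, hxU, rfl⟩, of_etale_cover (W.ι ≫ g) (fun _ : PUnit.{1} => _) (fun _ => χ) (fun w => ?_) fun _ => ?_⟩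
    · obtain ⟨z, hz, hzw⟩ := w.2
      refine ⟨PUnit.unit, ⟨z, hz⟩, W.ι.isOpenEmbedding.injective ?_⟩
      rw [← Scheme.Hom.comp_apply, hχ]
      exact hzw
    · rw [← Category.assoc, hχ, Category.assoc]
      exact hU
  · rintro ⟨U, hxU, hU⟩
    refine ⟨e ⁻¹ᵁ U, hxU, ?_⟩
    rw [← Category.assoc, ← morphismRestrict_ι, Category.assoc]
    exact comp_etale _ _ hU

theorem ndCond_target_iff (g : X ⟶ Y) (φ : Y ⟶ Z) [Etale φ] (x : X) : ndCond (g ≫ φ) x ↔ ndCond g x := by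
  refine exists_congr fun U => and_congr_right fun _ => ⟨fun h => ?_, fun h => ?_⟩
  · have h' : Curv2.IsNodalFamily ((U.ι ≫ g) ≫ φ) := by rw [Category.assoc]; exact h
    have sq := IsPullback.of_hasPullback ((U.ι ≫ g) ≫ φ) φ
    let σ := sq.lift (𝟙 _) (U.ι ≫ g) (Category.id_comp _)
    have h1 : σ ≫ pullback.fst ((U.ι ≫ g) ≫ φ) φ = 𝟙 _ := sq.lift_fst _ _ _
    haveI : Etale (σ ≫ pullback.fst ((U.ι ≫ g) ≫ φ) φ) := by rw [h1]; infer_instance
    haveI : Etale σ := Etale.of_comp _ (pullback.fst ((U.ι ≫ g) ≫ φ) φ)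
    rw [← sq.lift_snd (𝟙 _) (U.ι ≫ g) (Category.id_comp _)]
    exact comp_etale _ _ (isNodalFamily_of_isPullback sq h')
  · rw [← Category.assoc]
    exact postcomp_etale φ _ h

theorem ndCond_baseChange {f : X ⟶ Y} {b : Y' ⟶ Y} {f' : X' ⟶ Y'} {b' : X' ⟶ X} [Flat f]
    [LocallyOfFinitePresentation f] (sq : IsPullback b' f' f b) (x : X') : ndCond f' x ↔ ndCond f (b' x) := by
  constructor
  · rintro ⟨V, hxV, hV⟩
    let e := sq.isoPullback
    have hV' : ndCond (e.inv ≫ f') (e.hom x) := by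
      refine (ndCond_source_iff e.inv f' (e.hom x)).2 ?_
      rw [← Scheme.Hom.comp_apply, e.hom_inv_id]
      exact ⟨V, hxV, hV⟩
    rw [sq.isoPullback_inv_snd] at hV'
    obtain ⟨W, hxW, hW⟩ := hV'
    obtain ⟨O, hxO, hO⟩ := exists_open_isNodalFamily_descend f b W hW (e.hom x) hxW
    refine ⟨O, ?_, hO⟩
    rw [← sq.isoPullback_hom_fst]
    exact hxO
  · rintro ⟨U, hxU, hU⟩
    exact ⟨b' ⁻¹ᵁ U, hxU, isNodalFamily_of_isPullback
      ((isPullback_morphismRestrict b' U).paste_vert sq) hU⟩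

theorem ndCond_good : PtCond.Good ndCond.{u} where
  source e g _ _ _ x := ndCond_source_iff e g x
  target g φ _ _ _ x := ndCond_target_iff g φ x
  baseChange := fun sq x => ndCond_baseChange sq x
  isOpen g _ _ := isOpen_iff_forall_mem_open.2 fun _ ⟨U, hxU, hU⟩ => ⟨U, fun _ hy => ⟨U, hy, hU⟩, U.2, hxU⟩

/-- Smooth morphisms of relative dimension one are nodal. -/
theorem ndCond_of_smoothOfRelativeDimension (g : X ⟶ Y) [SmoothOfRelativeDimension 1 g] (x : X) : ndCond g x := by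
  obtain ⟨U, hU, V, hV, hxV, e, hsm⟩ :=
    SmoothOfRelativeDimension.exists_isStandardSmoothOfRelativeDimension (n := 1) (f := g) x
  obtain ⟨p, hpC, hp⟩ := hsm.exists_etale_mvPolynomial
  haveI : Etale (Spec.map (CommRingCat.ofHom p)) := (HasRingHomProperty.Spec_iff (P := @Etale)).mpr hp
  have h : Curv2.IsNodalFamily (hV.isoSpec.hom ≫ Spec.map (g.appLE U V e) ≫ hU.fromSpec) := by
    refine comp_etale _ _ (postcomp_etale hU.fromSpec _ ?_)
    rw [show Spec.map (g.appLE U V e) = Spec.map (CommRingCat.ofHom p) ≫ affProj 1 (Γ(Y, U) : Type u) by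
      rw [← Spec.map_comp, ← CommRingCat.ofHom_comp, hpC]; rfl]
    exact comp_etale _ _ (isNodalFamily_affineLine Γ(Y, U))
  refine ⟨V, hxV, ?_⟩
  rwa [IsAffineOpen.SpecMap_appLE_fromSpec g hU hV e, ← Category.assoc, IsAffineOpen.isoSpec_hom_fromSpec] at h

end Groth.L21.OpenSt
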