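import Groth.Agent.L21.OpenSt.Bridge
import Groth.Agent.L23.Univ

/-!
Basic properties of the geometric fibres of a family of curves.
-/

set_option autoImplicit false
set_option backward.isDefEq.respectTransparency false
set_option backward.isDefEq.respectTransparency.types false

universe u

open CategoryTheory CategoryTheory.Limits AlgebraicGeometry AlgSp TopologicalSpace

noncomputable section

namespace Groth.L21.OpenSt

variable {S : Scheme.{u}} {n : ℕ} (A : CurvSt.SpFamObj S n) (hA : CurvSt.IsCurveFam A)
  {Ω : Type u} [Field Ω] [IsAlgClosed Ω] {t : Spec (CommRingCat.of Ω) ⟶ A.base.left} {X' : Scheme.{u}}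
  {q : X' ⟶ Spec (CommRingCat.of Ω)} {i : (AlgSp.yon S).obj (A.ptOver (q ≫ t)) ⟶ A.X}
  (hP : IsPullback i ((AlgSp.yon S).map (A.fibHom t q)) A.f ((AlgSp.yon S).map (A.ptHom t)))

include hA hP

/-- The geometric fibres are locally of finite presentation. -/
theorem lfp_fibre : LocallyOfFinitePresentation q :=
  Groth.L23.locP_of_isPullback Groth.L23.etLocal_lfp hA.1 (IsAlgSpace.yon_obj _) (IsAlgSpace.yon_obj _) hP
    hA.2.2.2.1.1 (𝟙 ((AlgSp.yon S).obj (A.ptOver (q ≫ t)))) (𝟙 _) (A.fibHom t q)
    (AlgSp.repWith_id _ _) (AlgSp.repWith_id _ _) (by rw [Category.id_comp, Category.comp_id])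

/-- The geometric fibres have dimension at most one at every point. -/
theorem dimLE_fibre (x : ↥X') : CurveScheme.dimLE q x := by
  have h : CurvSt.GeomFib (fun _ _ _ _ q _ => ∀ x, CurveScheme.dimLE q x) A := by
    rw [geomFib_iff_locP CurveScheme.dimLE_good A hA]
    obtain ⟨hX, hflat, -, hfp, hdim⟩ := hA
    obtain ⟨At⟩ := exists_atl (f := A.f) hX
    rw [locP_iff CurveScheme.dimLE_good hflat hfp.1 At]
    exact (forall_hasAtMor_iff CurveScheme.dimLE_good hflat hfp.1 At).1 hdim
  exact h Ω t X' q i hP x

/-- The geometric fibres are quasi-compact. -/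
theorem compactSpace_fibre : CompactSpace ↥X' := by
  haveI : CompactSpace (A.ptOver t).left := inferInstanceAs (CompactSpace (PrimeSpectrum Ω))
  exact Groth.L23.compactSpace_of_isQuasiCompactSp (T := A.ptOver (q ≫ t))
    (hA.2.2.2.1.2.1 (IsAlgSpace.yon_obj _) Groth.L23.isQuasiCompactSp_of_compactSpace _ _ _ hP)

/-- The geometric fibres have dimension at most one. -/
theorem topologicalKrullDim_fibre : topologicalKrullDim X' ≤ 1 := by
  haveI := lfp_fibre A hA hP
  exact CurveScheme.topologicalKrullDim_le_one q (dimLE_fibre A hA hP)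

end Groth.L21.OpenSt
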