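import Groth.Agent.L21.OpenSt.Locus
import Groth.Agent.L23.ReducedStalk
import Groth.Agent.S2549
import Groth.Agent.S2521
import Mathlib.FieldTheory.IsAlgClosed.AlgebraicClosure
import Mathlib.AlgebraicGeometry.AlgClosed.Basic

/-!
Being geometrically reduced in the fibre, as a pointwise condition on families.
-/

set_option autoImplicit false
set_option backward.isDefEq.respectTransparency false
set_option backward.isDefEq.respectTransparency.types false
set_option linter.style.haveILetI false

universe u

open CategoryTheory CategoryTheory.Limits AlgebraicGeometry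

noncomputable section

namespace Groth.L21.OpenSt

variable {X Y Z : Scheme.{u}}

/-- Reducedness of a local ring descends along flat morphisms. -/
theorem isReduced_stalk_of_flat (m : X ⟶ Y) [Flat m] (x : X) [_root_.IsReduced (X.presheaf.stalk x)] :
    _root_.IsReduced (Y.presheaf.stalk (m x)) := by
  letI := (m.stalkMap x).hom.toAlgebra
  haveI : Module.Flat (Y.presheaf.stalk (m x)) (X.presheaf.stalk x) := Flat.stalkMap m x
  haveI : IsLocalHom (algebraMap (Y.presheaf.stalk (m x)) (X.presheaf.stalk x)) :=
    inferInstanceAs (IsLocalHom (m.stalkMap x).hom)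
  haveI := Module.FaithfullyFlat.of_flat_of_isLocalHom (A := Y.presheaf.stalk (m x)) (B := X.presheaf.stalk x)
  exact isReduced_of_injective (algebraMap (Y.presheaf.stalk (m x)) (X.presheaf.stalk x))
    (FaithfulSMul.algebraMap_injective _ _)

/-- All geometric fibres are reduced over the point. -/
def redCond : PtCond.{u} := fun X Y g x =>
  ∀ (K : Type u) [Field K] [IsAlgClosed K] (t : Spec (CommRingCat.of K) ⟶ Y) (z : ↥(pullback g t)),
    pullback.fst g t z = x → _root_.IsReduced ((pullback g t).presheaf.stalk z)

theorem redCond_isPullback {g : X ⟶ Y} {x : X} (h : redCond g x) {K : Type u} [Field K] [IsAlgClosed K]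
    {t : Spec (CommRingCat.of K) ⟶ Y} {P : Scheme.{u}} {a : P ⟶ X} {b : P ⟶ Spec (CommRingCat.of K)}
    (sq : IsPullback a b g t) (w : P) (hw : a w = x) : _root_.IsReduced (P.presheaf.stalk w) := by
  haveI := h K t (sq.isoPullback.hom w) (by rw [← Scheme.Hom.comp_apply, sq.isoPullback_hom_fst, hw])
  exact Groth.L23.isReduced_stalk_of_etale sq.isoPullback.hom w

theorem exists_specMap (k : Type u) [Field k] : ∃ (K : Type u) (_ : Field K) (_ : IsAlgClosed K)
    (s : Spec (CommRingCat.of K) ⟶ Spec (CommRingCat.of k)), Flat s ∧ Surjective s := by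
  refine ⟨AlgebraicClosure k, inferInstance, inferInstance,
    Spec.map (CommRingCat.ofHom (algebraMap k (AlgebraicClosure k))), ?_, ⟨fun z => ⟨default, Subsingleton.elim _ _⟩⟩⟩
  exact (HasRingHomProperty.Spec_iff (P := @Flat)).2 (RingHom.flat_algebraMap_iff.2 inferInstance)

/-- The condition read on a model of the fibre over a field. -/
theorem redCond_iff_of_isPullback (g : X ⟶ Y) (x : X) {k : Type u} [Field k] {F : Scheme.{u}}
    {i : F ⟶ X} {f₀ : F ⟶ Spec (CommRingCat.of k)} {j : Spec (CommRingCat.of k) ⟶ Y} (sqF : IsPullback i f₀ g j)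
    (x₀ : F) (hx₀ : i x₀ = x) (huniq : ∀ w, i w = x → w = x₀)
    (hfac : ∀ (K : Type u) [Field K] (t : Spec (CommRingCat.of K) ⟶ Y), t (IsLocalRing.closedPoint K) = g x →
      ∃ φ : CommRingCat.of k ⟶ CommRingCat.of K, Spec.map φ ≫ j = t) :
    redCond g x ↔ FBase.IsGeomReducedAt f₀ x₀ := by
  constructor
  · intro h K _ _ x' hx'
    obtain ⟨L, _, _, s, hs, hss⟩ := exists_specMap K
    have sq : IsPullback (FBase.bcπ f₀ K) (FBase.bcStr f₀ K) f₀
        (Spec.map (CommRingCat.ofHom (algebraMap k K))) := IsPullback.of_hasPullback _ _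
    have sq₂ : IsPullback (pullback.fst (FBase.bcStr f₀ K) s) (pullback.snd (FBase.bcStr f₀ K) s)
        (FBase.bcStr f₀ K) s := IsPullback.of_hasPullback _ _
    obtain ⟨w, hw, -⟩ := Scheme.Pullback.exists_preimage_pullback (f := FBase.bcStr f₀ K) (g := s) x'
      default (Subsingleton.elim (α := PrimeSpectrum K) _ _)
    haveI := redCond_isPullback h ((sq₂.paste_horiz sq).paste_horiz sqF) w (by
      rw [Scheme.Hom.comp_apply, Scheme.Hom.comp_apply, hw, hx', hx₀])
    haveI : Flat (pullback.fst (FBase.bcStr f₀ K) s) := MorphismProperty.pullback_fst _ _ hs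
    exact hw ▸ isReduced_stalk_of_flat (pullback.fst (FBase.bcStr f₀ K) s) w
  · intro h K _ _ t z hz
    have hp : t (IsLocalRing.closedPoint K) = g x := by
      have e1 : (pullback.fst g t ≫ g) z = (pullback.snd g t ≫ t) z :=
        congrArg (fun m : pullback g t ⟶ Y => m z) pullback.condition
      rw [Scheme.Hom.comp_apply, Scheme.Hom.comp_apply, hz] at e1
      rw [e1]
      exact congrArg t (Subsingleton.elim (α := PrimeSpectrum K) _ _)
    obtain ⟨φ, hφ⟩ := hfac K t hp
    letI : Algebra k K := φ.hom.toAlgebra
    have sq : IsPullback (FBase.bcπ f₀ K ≫ i) (FBase.bcStr f₀ K) g t := by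
      rw [← hφ]
      exact (IsPullback.of_hasPullback f₀ (Spec.map φ)).paste_horiz sqF
    haveI := h K (sq.isoPullback.inv z) (huniq _ (by
      rw [← Scheme.Hom.comp_apply, ← Scheme.Hom.comp_apply, sq.isoPullback_inv_fst, hz]))
    exact Groth.L23.isReduced_stalk_of_etale sq.isoPullback.inv z

/-- The condition is that of being geometrically reduced at the point of the fibre. -/
theorem redCond_iff (g : X ⟶ Y) (x : X) :
    redCond g x ↔ FBase.IsGeomReducedAt (g.fiberToSpecResidueField (g x)) (g.asFiber x) :=
  redCond_iff_of_isPullback (k := Y.residueField (g x)) g x (i := g.fiberι (g x))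
    (IsPullback.of_hasPullback g (Y.fromSpecResidueField (g x))) (g.asFiber x) (g.fiberι_asFiber x)
    (fun w hw => (g.fiberι (g x)).isEmbedding.injective (hw.trans (g.fiberι_asFiber x).symm))
    (fun K _ t hp => by
      rw [← hp]
      exact ⟨_, Scheme.descResidueField_stalkClosedPointTo_fromSpecResidueField _ _ t⟩)

theorem redCond_baseChange {X' Y' : Scheme.{u}} {f : X ⟶ Y} {b : Y' ⟶ Y} {f' : X' ⟶ Y'} {b' : X' ⟶ X}
    (sq : IsPullback b' f' f b) (x : X') : redCond f' x ↔ redCond f (b' x) := by
  constructor
  · intro h K _ _ t z hz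
    have sqP : IsPullback (pullback.fst f t) (pullback.snd f t) f t := IsPullback.of_hasPullback _ _
    let p₁ := pullback.fst b t
    let p₂ := pullback.snd b t
    have h₁ := (IsPullback.of_hasPullback f' p₁).paste_horiz sq
    -- the double base change maps to both
    let Q := pullback f' p₁
    let m : Q ⟶ pullback f t := pullback.lift (pullback.fst f' p₁ ≫ b') (pullback.snd f' p₁ ≫ p₂) (by
      rw [Category.assoc, sq.w, pullback.condition_assoc, Category.assoc, pullback.condition])
    have hm : IsPullback m (pullback.snd f' p₁) (pullback.snd f t) p₂ := by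
      refine IsPullback.of_right ?_ (pullback.lift_snd _ _ _) sqP
      rw [pullback.lift_fst, ← pullback.condition]
      exact h₁
    obtain ⟨y, hy, hy'⟩ : ∃ y : Q, pullback.fst f' p₁ y = x ∧ m y = z := by
      obtain ⟨w, h1, h2⟩ := Scheme.Pullback.exists_preimage_pullback (f := b') (g := pullback.fst f t) x z hz.symm
      let R₁ := pullback.fst b' (pullback.fst f t)
      let R₂ := pullback.snd b' (pullback.fst f t)
      let q : pullback b' (pullback.fst f t) ⟶ Q := pullback.lift R₁ (pullback.lift (R₁ ≫ f') (R₂ ≫ pullback.snd f t)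
          (by rw [Category.assoc, ← sq.w, ← Category.assoc, pullback.condition, Category.assoc, Category.assoc,
            pullback.condition]))
        (pullback.lift_fst _ _ _).symm
      have hqm : q ≫ m = R₂ := by
        apply pullback.hom_ext
        · rw [Category.assoc, pullback.lift_fst, pullback.lift_fst_assoc, pullback.condition]
        · rw [Category.assoc, pullback.lift_snd, pullback.lift_snd_assoc, pullback.lift_snd]
      exact ⟨q w, by rw [← Scheme.Hom.comp_apply, pullback.lift_fst, h1],
        by rw [← Scheme.Hom.comp_apply, hqm, h2]⟩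
    obtain ⟨L, _, _, s, hs, hss⟩ := exists_specMap ((pullback b t).residueField (pullback.snd f' p₁ y))
    let j := s ≫ (pullback b t).fromSpecResidueField (pullback.snd f' p₁ y)
    haveI : Flat (j ≫ p₂) := by
      obtain ⟨φ, hφ⟩ := Spec.map_surjective (j ≫ p₂)
      rw [← hφ, Flat.SpecMap_iff]
      letI := φ.hom.toAlgebra
      exact RingHom.flat_algebraMap_iff.2 (inferInstance : Module.Flat K L)
    let σ := j ≫ p₂
    have hσf : σ ≫ t = (j ≫ p₁) ≫ b := by simp only [σ, p₁, p₂, Category.assoc, pullback.condition]
    have sqR : IsPullback (pullback.fst (pullback.snd f t) σ) (pullback.snd (pullback.snd f t) σ)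
        (pullback.snd f t) σ := IsPullback.of_hasPullback _ _
    have sqR' : IsPullback (pullback.fst (pullback.snd f' p₁) j ≫ m) (pullback.snd (pullback.snd f' p₁) j)
        (pullback.snd f t) σ := (IsPullback.of_hasPullback _ j).paste_horiz hm
    obtain ⟨w, hw, -⟩ := Scheme.Pullback.exists_preimage_pullback (f := pullback.snd f' p₁) (g := j) y
      default (by
        rw [Scheme.Hom.comp_apply]
        exact (Scheme.fromSpecResidueField_apply _ _).symm)
    haveI := redCond_isPullback h ((IsPullback.of_hasPullback (pullback.snd f' p₁) j).paste_horiz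
      (IsPullback.of_hasPullback f' p₁)) w (by rw [Scheme.Hom.comp_apply, hw, hy])
    haveI : Flat (pullback.fst (pullback.snd f' p₁) j ≫ m) := MorphismProperty.of_isPullback sqR'.flip ‹Flat (j ≫ p₂)›
    have := isReduced_stalk_of_flat (pullback.fst (pullback.snd f' p₁) j ≫ m) w
    rwa [Scheme.Hom.comp_apply, hw, hy'] at this
  · intro h K _ _ t z hz
    exact redCond_isPullback h ((IsPullback.of_hasPullback f' t).paste_horiz sq) z
      (by rw [Scheme.Hom.comp_apply, hz])

theorem exists_section_of_etale {K : Type u} [Field K] [IsAlgClosed K] {P : Scheme.{u}}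
    (p : P ⟶ Spec (CommRingCat.of K)) [Etale p] (c : P) :
    ∃ τ : Spec (CommRingCat.of K) ⟶ P, τ ≫ p = 𝟙 _ ∧ τ (IsLocalRing.closedPoint K) = c := by
  haveI : LocallyQuasiFinite p := inferInstance
  haveI : DiscreteTopology ↥(p.fiber (p c)) := inferInstance
  have hc : IsClosed ({c} : Set P) := by
    have hF : p ⁻¹' {p c} = Set.univ := Set.eq_univ_of_forall fun y => Subsingleton.elim (α := PrimeSpectrum K) _ _
    have h1 : IsClosed ({(⟨c, rfl⟩ : p ⁻¹' {p c})} : Set (p ⁻¹' {p c})) := by
      have := (p.fiberHomeo (p c)).discreteTopology_iff.1 inferInstance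
      exact isClosed_discrete _
    have h2 : IsClosed (p ⁻¹' {p c}) := hF ▸ isClosed_univ
    have h3 := h2.isClosedEmbedding_subtypeVal.isClosedMap _ h1
    rwa [Set.image_singleton] at h3
  exact ⟨pointOfClosedPoint p c hc, pointOfClosedPoint_comp p c hc, pointOfClosedPoint_apply p c hc _⟩

theorem redCond_good : PtCond.Good redCond.{u} where
  source := fun {X' X Y} e g _ _ _ x => by
    constructor
    · intro h K _ _ t z hz
      have sq : IsPullback (pullback.fst e (pullback.fst g t)) (pullback.snd e (pullback.fst g t) ≫ pullback.snd g t)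
          (e ≫ g) t := (IsPullback.of_hasPullback e (pullback.fst g t)).paste_vert (IsPullback.of_hasPullback g t)
      obtain ⟨w, hw, hw'⟩ := Scheme.Pullback.exists_preimage_pullback (f := e) (g := pullback.fst g t) x z hz.symm
      haveI := redCond_isPullback h sq w hw
      haveI : Etale (pullback.snd e (pullback.fst g t)) := MorphismProperty.pullback_snd _ _ ‹Etale e›
      exact hw' ▸ Groth.L23.isReduced_stalk_of_etale' (pullback.snd e (pullback.fst g t)) w
    · intro h K _ _ t z hz
      have sq : IsPullback (pullback.fst e (pullback.fst g t)) (pullback.snd e (pullback.fst g t) ≫ pullback.snd g t)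
          (e ≫ g) t := (IsPullback.of_hasPullback e (pullback.fst g t)).paste_vert (IsPullback.of_hasPullback g t)
      haveI : Etale (pullback.snd e (pullback.fst g t)) := MorphismProperty.pullback_snd _ _ ‹Etale e›
      let w := sq.isoPullback.inv z
      haveI := h K t (pullback.snd e (pullback.fst g t) w) (by
        have e1 : pullback.fst e (pullback.fst g t) w = x := by
          rw [← Scheme.Hom.comp_apply, sq.isoPullback_inv_fst, hz]
        rw [← Scheme.Hom.comp_apply, ← pullback.condition, Scheme.Hom.comp_apply, e1])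
      haveI := Groth.L23.isReduced_stalk_of_etale (pullback.snd e (pullback.fst g t)) w
      exact Groth.L23.isReduced_stalk_of_etale sq.isoPullback.inv z
  target := fun {X Y Y'} g φ _ _ _ x => by
    constructor
    · intro h K _ _ t z hz
      have sqY : IsPullback (pullback.fst φ (t ≫ φ)) (pullback.snd φ (t ≫ φ)) φ (t ≫ φ) := IsPullback.of_hasPullback _ _
      let σ : Spec (CommRingCat.of K) ⟶ pullback φ (t ≫ φ) := pullback.lift t (𝟙 _) (Category.id_comp _).symm
      haveI : Etale (pullback.snd φ (t ≫ φ)) := MorphismProperty.pullback_snd _ _ ‹Etale φ›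
      haveI : Etale σ := by
        have : Etale (σ ≫ pullback.snd φ (t ≫ φ)) := by
          rw [pullback.lift_snd]; infer_instance
        exact Etale.of_comp σ (pullback.snd φ (t ≫ φ))
      let P := pullback g (pullback.fst φ (t ≫ φ))
      have sqP : IsPullback (pullback.fst g (pullback.fst φ (t ≫ φ)))
          (pullback.snd g (pullback.fst φ (t ≫ φ)) ≫ pullback.snd φ (t ≫ φ)) (g ≫ φ) (t ≫ φ) :=
        (IsPullback.of_hasPullback g _).paste_vert sqY
      let m : pullback g t ⟶ P := pullback.lift (pullback.fst g t) (pullback.snd g t ≫ σ) (by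
        rw [Category.assoc, pullback.lift_fst, pullback.condition])
      have hm : IsPullback m (pullback.snd g t) (pullback.snd g (pullback.fst φ (t ≫ φ))) σ := by
        refine IsPullback.of_right ?_ (pullback.lift_snd _ _ _) (IsPullback.of_hasPullback g _)
        rw [pullback.lift_fst, pullback.lift_fst]
        exact IsPullback.of_hasPullback g t
      haveI : Etale m := MorphismProperty.of_isPullback hm.flip ‹Etale σ›
      haveI := redCond_isPullback h sqP (m z) (by rw [← Scheme.Hom.comp_apply, pullback.lift_fst, hz])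
      exact Groth.L23.isReduced_stalk_of_etale m z
    · intro h K _ _ t z hz
      let p₁ := pullback.fst φ t
      let p₂ := pullback.snd φ t
      haveI : Etale p₂ := MorphismProperty.pullback_snd _ _ ‹Etale φ›
      have sqP : IsPullback (pullback.fst g p₁) (pullback.snd g p₁ ≫ p₂) (g ≫ φ) t :=
        (IsPullback.of_hasPullback g p₁).paste_vert (IsPullback.of_hasPullback φ t)
      let w := sqP.isoPullback.inv z
      let c := pullback.snd g p₁ w
      haveI : LocallyOfFiniteType p₂ := inferInstance
      obtain ⟨τ, hτ, hτc⟩ : ∃ τ : Spec (CommRingCat.of K) ⟶ pullback φ t, τ ≫ p₂ = 𝟙 _ ∧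
          τ (IsLocalRing.closedPoint K) = c := by
        obtain ⟨τ, h1, h2⟩ := exists_section_of_etale p₂ c
        exact ⟨τ, h1, h2⟩
      haveI : Etale τ := by
        have : Etale (τ ≫ p₂) := by rw [hτ]; infer_instance
        exact Etale.of_comp τ p₂
      have sqQ : IsPullback (pullback.fst (pullback.snd g p₁) τ ≫ pullback.fst g p₁)
          (pullback.snd (pullback.snd g p₁) τ) g (τ ≫ p₁) :=
        (IsPullback.of_hasPullback _ τ).paste_horiz (IsPullback.of_hasPullback g p₁)
      obtain ⟨v, hv, -⟩ := Scheme.Pullback.exists_preimage_pullback (f := pullback.snd g p₁) (g := τ) w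
        (IsLocalRing.closedPoint K) hτc.symm
      haveI := redCond_isPullback h sqQ v (by
        rw [Scheme.Hom.comp_apply, hv, ← Scheme.Hom.comp_apply, sqP.isoPullback_inv_fst, hz])
      haveI : Etale (pullback.fst (pullback.snd g p₁) τ) := MorphismProperty.pullback_fst _ _ ‹Etale τ›
      have := Groth.L23.isReduced_stalk_of_etale' (pullback.fst (pullback.snd g p₁) τ) v
      rw [hv] at this
      exact Groth.L23.isReduced_stalk_of_etale sqP.isoPullback.inv z
  baseChange := fun {_ _ _ _ f b f' b'} _ _ sq x => redCond_baseChange sq x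
  isOpen g _ _ := by
    have := Groth.Agent.S2549.result g
    convert this using 2
    ext x
    exact redCond_iff g x
end Groth.L21.OpenSt
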