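import Groth.Agent.L21.OpenSt.Engine
import Groth.Agent.L23.Points
import Groth.Agent.L23.LocP
import Groth.Prelude.Def_StCurv2

/-!
The locus in the base of a family of curves over which a fibrewise pointwise property holds.
-/

set_option autoImplicit false
set_option backward.isDefEq.respectTransparency false
set_option backward.isDefEq.respectTransparency.types false

universe u

open CategoryTheory CategoryTheory.Limits AlgebraicGeometry Opposite AlgSp TopologicalSpace

noncomputable section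

namespace Groth.L21.OpenSt

/-- A condition on a morphism of schemes at a point of the source. -/
abbrev PtCond : Type (u + 1) := ∀ ⦃X Y : Scheme.{u}⦄, (X ⟶ Y) → ↥X → Prop

/-- The property of having the condition at all points. -/
def Everywhere (Φ : PtCond.{u}) : MorphismProperty Scheme.{u} := fun _ _ g => ∀ x, Φ g x

/-- What is needed of a pointwise condition: etale invariance, fibrewise nature and openness. -/
structure PtCond.Good (Φ : PtCond.{u}) : Prop where
  source : ∀ {X' X Y : Scheme.{u}} (e : X' ⟶ X) (g : X ⟶ Y) [Etale e] [Flat g] [LocallyOfFinitePresentation g] (x : ↥X'),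
    Φ (e ≫ g) x ↔ Φ g (e x)
  target : ∀ {X Y Y' : Scheme.{u}} (g : X ⟶ Y) (φ : Y ⟶ Y') [Etale φ] [Flat g] [LocallyOfFinitePresentation g] (x : ↥X),
    Φ (g ≫ φ) x ↔ Φ g x
  baseChange : ∀ {X Y X' Y' : Scheme.{u}} {f : X ⟶ Y} {b : Y' ⟶ Y} {f' : X' ⟶ Y'} {b' : X' ⟶ X}
    [Flat f] [LocallyOfFinitePresentation f],
    IsPullback b' f' f b → ∀ x : ↥X', Φ f' x ↔ Φ f (b' x)
  isOpen : ∀ {X Y : Scheme.{u}} (g : X ⟶ Y) [Flat g] [LocallyOfFinitePresentation g], IsOpen {x | Φ g x}

variable {S : Scheme.{u}} {X : Sp S} {T : Over S} {f : X ⟶ (yon S).obj T} {Φ : PtCond.{u}}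

/-- An etale atlas of a space over a scheme, with its scheme map. -/
structure Atl (f : X ⟶ (yon S).obj T) where
  /-- the scheme -/
  W : Over S
  /-- the atlas -/
  a : (yon S).obj W ⟶ X
  /-- the map to the base -/
  g : W ⟶ T
  etale : RepWith @Etale a
  surj : RepWith @Surjective a
  w : a ≫ f = (yon S).map g

theorem exists_atl (hX : IsAlgSpace X) : Nonempty (Atl f) := by
  obtain ⟨W, a, ha, has⟩ := hX.atlas
  exact ⟨⟨W, a, (yon S).preimage (a ≫ f), ha, has, ((yon S).map_preimage _).symm⟩⟩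

theorem flat_lfp_of_chart (hf : LocP @Flat f) (hf' : LocP @LocallyOfFinitePresentation f) {U V : Over S}
    (a : (yon S).obj U ⟶ X) (b : (yon S).obj V ⟶ (yon S).obj T) (h : U ⟶ V) (ha : RepWith @Etale a)
    (hb : RepWith @Etale b) (w : a ≫ f = (yon S).map h ≫ b) :
    Flat h.left ∧ LocallyOfFinitePresentation h.left :=
  ⟨hf a b h ha hb w, hf' a b h ha hb w⟩

theorem Atl.flat (A : Atl f) (hf : LocP @Flat f) : Flat A.g.left :=
  hf A.a (𝟙 _) A.g A.etale (repWith_id _ T) (by rw [A.w, Category.comp_id])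

theorem Atl.lfp (A : Atl f) (hf' : LocP @LocallyOfFinitePresentation f) : LocallyOfFinitePresentation A.g.left :=
  hf' A.a (𝟙 _) A.g A.etale (repWith_id _ T) (by rw [A.w, Category.comp_id])

/-- The condition at a point of a chart depends only on the point of the space. -/
theorem cond_iff_of_eq (hΦ : Φ.Good) (hf : LocP @Flat f) (hf' : LocP @LocallyOfFinitePresentation f) (A : Atl f)
    {U V : Over S} {a : (yon S).obj U ⟶ X} {b : (yon S).obj V ⟶ (yon S).obj T} {h : U ⟶ V}
    (ha : RepWith @Etale a) (hb : RepWith @Etale b) (w : a ≫ f = (yon S).map h ≫ b)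
    (u : ↥U.left) (v : ↥A.W.left) (e : Points.ofPt a u = Points.ofPt A.a v) :
    Φ h.left u ↔ Φ A.g.left v := by
  obtain ⟨R, p, q, sq⟩ := Groth.L23.exists_isPullback_of_representable ha.1 A.a
  obtain ⟨R, p, q, sq⟩ : ∃ (R : Over S) (p : R ⟶ U) (q : R ⟶ A.W),
      IsPullback ((yon S).map p) ((yon S).map q) a A.a := ⟨R, p, q, sq⟩
  obtain ⟨r, rfl, rfl⟩ := (Groth.L23.ofPt_eq_ofPt_iff sq u v).1 e
  have : Etale p.left := Groth.L23.repWith_prop A.etale sq.flip
  have : Etale q.left := Groth.L23.repWith_prop ha sq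
  obtain ⟨φ, rfl⟩ := (yon S).map_surjective b
  have : Etale φ.left := (AlgSp.repWith_yon_map_iff @Etale φ).1 hb
  obtain ⟨hfl, hlfp⟩ := flat_lfp_of_chart hf hf' a _ h ha hb w
  haveI := hfl
  haveI := hlfp
  haveI := A.flat hf
  haveI := A.lfp hf'
  have hcomp : p ≫ h ≫ φ = q ≫ A.g := (yon S).map_injective (by
    rw [Functor.map_comp, Functor.map_comp, Functor.map_comp, ← A.w, ← w, ← Category.assoc, ← Category.assoc, sq.w])
  have hl : (p.left ≫ h.left) ≫ φ.left = q.left ≫ A.g.left := by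
    rw [Category.assoc]
    exact congrArg CommaMorphism.left hcomp
  rw [← hΦ.source p.left h.left r, ← hΦ.target (p.left ≫ h.left) φ.left r, ← hΦ.source q.left A.g.left r]
  generalize (p.left ≫ h.left) ≫ φ.left = c at hl
  subst hl
  exact Iff.rfl

theorem locP_iff (hΦ : Φ.Good) (hf : LocP @Flat f) (hf' : LocP @LocallyOfFinitePresentation f) (A : Atl f) :
    LocP (Everywhere Φ) f ↔ ∀ v : ↥A.W.left, Φ A.g.left v := by
  refine ⟨fun h v => h A.a (𝟙 _) A.g A.etale (repWith_id _ T) (by rw [A.w, Category.comp_id]) v, ?_⟩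
  intro h U V a b k ha hb w u
  obtain ⟨v, hv⟩ := Groth.L23.surjective_ofPt A.surj (Points.ofPt a u)
  exact (cond_iff_of_eq hΦ hf hf' A ha hb w u v hv.symm).2 (h v)

theorem forall_hasAtMor_iff (hΦ : Φ.Good) (hf : LocP @Flat f) (hf' : LocP @LocallyOfFinitePresentation f) (A : Atl f) :
    (∀ x : Points X, HasAtMor (fun _ _ h u => Φ h u) f x) ↔ ∀ v : ↥A.W.left, Φ A.g.left v := by
  constructor
  · intro h v
    obtain ⟨U, V, a, b, k, u, ha, hb, w, hu, hk⟩ := h (Points.ofPt A.a v)
    exact (cond_iff_of_eq hΦ hf hf' A ha hb w u v hu).1 hk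
  · intro h x
    obtain ⟨v, rfl⟩ := Groth.L23.surjective_ofPt A.surj x
    exact ⟨A.W, T, A.a, 𝟙 _, A.g, v, A.etale, repWith_id _ T, by rw [A.w, Category.comp_id], rfl, h v⟩

/-- The image of the bad points in the base is closed. -/
theorem isClosed_bad (hΦ : Φ.Good) (hf : LocP @Flat f) (hf' : LocP @LocallyOfFinitePresentation f)
    (hc : IsUnivClosedMor f) (A : Atl f) : IsClosed (A.g.left '' {v | ¬ Φ A.g.left v}) := by
  haveI := A.flat hf
  haveI := A.lfp hf'
  let C : Set (Points X) := Points.ofPt A.a '' {v | ¬ Φ A.g.left v}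
  have hpre : Points.ofPt A.a ⁻¹' C = {v | ¬ Φ A.g.left v} := by
    refine Set.Subset.antisymm ?_ (Set.subset_preimage_image _ _)
    rintro v ⟨v', hv', e⟩
    exact fun hv => hv' ((cond_iff_of_eq hΦ hf hf' A A.etale (repWith_id _ T)
      (show A.a ≫ f = (yon S).map A.g ≫ 𝟙 _ by rw [A.w, Category.comp_id]) v' v e).2 hv)
  have hC : IsClosed C := by
    rw [← (Groth.L23.isOpenQuotientMap_ofPt A.etale A.surj).isQuotientMap.isClosed_preimage, hpre]
    exact (hΦ.isOpen A.g.left).isClosed_compl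
  have hcl : IsClosedMap (Points.map f) :=
    hc (IsAlgSpace.yon_obj T) (𝟙 _) (𝟙 _) f (IsPullback.of_horiz_isIso ⟨by simp⟩)
  have : A.g.left '' {v | ¬ Φ A.g.left v} = Points.schemeHomeo T ⁻¹' (Points.map f '' C) := by
    ext t
    simp only [C, Set.mem_preimage, Set.image_image, Set.mem_image]
    refine exists_congr fun v => and_congr_right fun _ => ?_
    rw [Points.map_ofPt, A.w, Groth.L23.ofPt_map]
    exact ⟨fun h => congrArg (Points.schemeHomeo T) h, fun h => (Points.schemeHomeo T).injective h⟩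
  rw [this]
  exact (hcl C hC).preimage (Points.schemeHomeo T).continuous

variable {X' : Sp S} {T' : Over S} {f' : X' ⟶ (yon S).obj T'} {top : X' ⟶ X} {b : T' ⟶ T}

/-- The base change of an atlas. -/
theorem Atl.exists_baseChange (A : Atl f) (sq : IsPullback top f' f ((yon S).map b)) :
    ∃ (A' : Atl f') (pr : A'.W ⟶ A.W), IsPullback pr.left A'.g.left A.g.left b.left := by
  have sq₂ := IsPullback.of_hasPullback A.g b
  have sqY := sq₂.map (yon S)
  let a' := sq.lift ((yon S).map (pullback.fst A.g b) ≫ A.a) ((yon S).map (pullback.snd A.g b))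
    (by rw [Category.assoc, A.w]; exact sqY.w)
  have sqA : IsPullback ((yon S).map (pullback.fst A.g b)) a' A.a top := by
    refine IsPullback.of_bot ?_ (sq.lift_fst _ _ _).symm sq
    rw [show a' ≫ f' = _ from sq.lift_snd _ _ _, A.w]
    exact sqY
  exact ⟨⟨pullback A.g b, a', pullback.snd A.g b, Groth.L23.repWith_of_isPullback sqA A.etale,
    Groth.L23.repWith_of_isPullback sqA A.surj, sq.lift_snd _ _ _⟩, pullback.fst A.g b,
    sq₂.map (Over.forget S)⟩

/-- The open locus of the base. -/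
theorem exists_locus (hΦ : Φ.Good) (hX : IsAlgSpace X) (hf : LocP @Flat f)
    (hf' : LocP @LocallyOfFinitePresentation f) (hc : IsUnivClosedMor f) :
    ∃ O : T.left.Opens, ∀ (X' : Sp S) (T' : Over S) (f' : X' ⟶ (yon S).obj T') (top : X' ⟶ X) (b : T' ⟶ T),
      IsAlgSpace X' → LocP @Flat f' → LocP @LocallyOfFinitePresentation f' →
      IsPullback top f' f ((yon S).map b) →
        ((LocP (Everywhere Φ) f' ↔ ∀ t, b.left t ∈ O) ∧
          ((∀ x : Points X', HasAtMor (fun _ _ h u => Φ h u) f' x) ↔ ∀ t, b.left t ∈ O)) := by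
  obtain ⟨A⟩ := exists_atl (f := f) hX
  refine ⟨⟨(A.g.left '' {v | ¬ Φ A.g.left v})ᶜ, (isClosed_bad hΦ hf hf' hc A).isOpen_compl⟩,
    fun X' T' f' top b hX' hfl hlfp sq => ?_⟩
  obtain ⟨A', pr, sqS⟩ := A.exists_baseChange sq
  haveI := A.flat hf
  haveI := A.lfp hf'
  have key : (∀ v : ↥A'.W.left, Φ A'.g.left v) ↔
      ∀ t, b.left t ∈ (A.g.left '' {v | ¬ Φ A.g.left v})ᶜ := by
    constructor
    · rintro h t ⟨v, hv, hvt⟩
      obtain ⟨w, hw, -⟩ := Scheme.Pullback.exists_preimage_pullback v t hvt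
      let z := sqS.isoPullback.inv w
      have hz : pr.left z = v := by
        rw [← hw, ← Scheme.Hom.comp_apply, sqS.isoPullback_inv_fst]
      exact hv (hz ▸ (hΦ.baseChange sqS z).1 (h z))
    · intro h z
      by_contra hz
      refine h (A'.g.left z) ⟨pr.left z, fun h' => hz ((hΦ.baseChange sqS z).2 h'), ?_⟩
      rw [← Scheme.Hom.comp_apply, sqS.w, Scheme.Hom.comp_apply]
  exact ⟨(locP_iff hΦ hfl hlfp A').trans key, (forall_hasAtMor_iff hΦ hfl hlfp A').trans key⟩

/-- An everywhere-condition cuts out an open substack of the stack of curves. -/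
theorem isOpenSubstack_of_iff (hΦ : Φ.Good)
    (hC : AlgSt.IsAlgStack Scheme.fppfPrecoverage (CurvSt.Curves S 0))
    {Q : (CurvSt.Curves S 0).obj → Prop}
    (hQ : ∀ A, Q A ↔ LocP (Everywhere Φ) A.obj.f) :
    AlgSt.IsOpenSubstack (CurvSt.Curves S 0) Q Scheme.fppfPrecoverage := by
  have hloc : ∀ B : (CurvSt.Curves S 0).obj, ∃ O : B.obj.base.left.Opens,
      ∀ (A : (CurvSt.Curves S 0).obj) (m : A ⟶ B), Q A ↔ ∀ t, m.hom.base.left t ∈ O := fun B => by
    obtain ⟨h1, h2, h3, h4, -⟩ := B.property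
    obtain ⟨O, hO⟩ := exists_locus hΦ h1 h2 h4.1 h3.2.2
    refine ⟨O, fun A m => (hQ A).trans ?_⟩
    exact (hO _ _ _ _ _ A.property.1 A.property.2.1 A.property.2.2.2.1.1 m.hom.cart).1
  refine isOpenSubstack_of_chart hC (fun A B m hB => ?_) fun U y => ?_
  · obtain ⟨O, hO⟩ := hloc B
    refine (hO A m).2 fun t => ?_
    exact (hO B (𝟙 B)).1 hB (m.hom.base.left t)
  · let idU : (FibCat.overCat U).obj := Over.mk (𝟙 U)
    have hb0 : (y.obj idU).obj.base = U := y.w_obj idU
    obtain ⟨O, hO⟩ := hloc (y.obj idU)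
    let i : U ⟶ (y.obj idU).obj.base := eqToHom hb0.symm
    refine ⟨i.left ⁻¹ᵁ O, fun a => ?_⟩
    let m : a ⟶ idU := Over.homMk a.hom (Category.comp_id _)
    have hh : (FibCat.overCat U).p.IsHomLift a.hom m :=
      @Functor.IsHomLift.map _ _ _ _ (FibCat.overCat U).p _ _ m
    have := @BasedFunctor.preserves_isHomLift _ _ _ _ y _ _ _ _ _ m hh
    have e : (y.map m).hom.base = eqToHom (y.w_obj a) ≫ a.hom ≫ i :=
      IsHomLift.fac' (CurvSt.Curves S 0).p a.hom (y.map m)
    have ha : (y.obj a).obj.base = a.left := y.w_obj a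
    rw [hO (y.obj a) (y.map m), e]
    constructor
    · intro h v
      have := h ((eqToHom ha.symm : a.left ⟶ _).left v)
      rw [← Scheme.Hom.comp_apply, ← Over.comp_left] at this
      simp only [eqToHom_trans_assoc, eqToHom_refl, Category.id_comp] at this
      exact this
    · intro h t
      exact h ((eqToHom ha : _ ⟶ a.left).left t)

end Groth.L21.OpenSt
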