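import Groth.Agent.L21.OpenSt.Locus
import Groth.Agent.L21.CurveScheme.GeomFibre

/-!
Pointwise conditions read on the geometric fibres of a family of curves.
-/

set_option autoImplicit false
set_option backward.isDefEq.respectTransparency false
set_option backward.isDefEq.respectTransparency.types false

universe u

open CategoryTheory CategoryTheory.Limits AlgebraicGeometry AlgSp TopologicalSpace

noncomputable section

namespace Groth.L21.OpenSt

variable {S : Scheme.{u}} {n : ℕ}

/-- A pointwise condition holds on a family iff it holds on all its geometric fibres. -/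
theorem geomFib_iff_locP {Φ : PtCond.{u}} (hΦ : Φ.Good) (A : CurvSt.SpFamObj S n) (hA : CurvSt.IsCurveFam A) :
    CurvSt.GeomFib (fun _ _ _ _ q _ => ∀ x, Φ q x) A ↔ LocP (Everywhere Φ) A.f := by
  have hA' := hA
  obtain ⟨hX, hflat, hprop, hfp, -⟩ := hA
  obtain ⟨O, hO⟩ := exists_locus hΦ hX hflat hfp.1 hprop.2.2
  have hid : IsPullback (𝟙 A.X) A.f A.f ((yon S).map (𝟙 A.base)) := by
    rw [CategoryTheory.Functor.map_id]
    exact IsPullback.of_horiz_isIso ⟨by simp⟩
  rw [(hO A.X A.base A.f (𝟙 _) (𝟙 _) hX hflat hfp.1 hid).1]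
  have key : ∀ (Ω : Type u) [Field Ω] [IsAlgClosed Ω] (t : Spec (CommRingCat.of Ω) ⟶ A.base.left) (X' : Scheme.{u})
      (q : X' ⟶ Spec (CommRingCat.of Ω)) (i : (AlgSp.yon S).obj (A.ptOver (q ≫ t)) ⟶ A.X),
      IsPullback i ((AlgSp.yon S).map (A.fibHom t q)) A.f ((AlgSp.yon S).map (A.ptHom t)) →
        ((∀ x, Φ q x) ↔ ∀ z, t z ∈ O) := by
    intro Ω _ _ t X' q i hP
    have hfl' := Groth.L23.locP_of_isPullback Groth.L23.etLocal_flat hX (IsAlgSpace.yon_obj _) (IsAlgSpace.yon_obj _) hP hflat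
    have hfp' := Groth.L23.locP_of_isPullback Groth.L23.etLocal_lfp hX (IsAlgSpace.yon_obj _) (IsAlgSpace.yon_obj _) hP hfp.1
    let A₀ : Atl ((AlgSp.yon S).map (A.fibHom t q)) :=
      ⟨A.ptOver (q ≫ t), 𝟙 _, A.fibHom t q, AlgSp.repWith_id _ _, AlgSp.repWith_id _ _, Category.id_comp _⟩
    exact (locP_iff hΦ hfl' hfp' A₀).symm.trans (hO _ _ _ i (A.ptHom t) (IsAlgSpace.yon_obj _) hfl' hfp' hP).1
  constructor
  · intro h s
    let Ω := AlgebraicClosure (A.base.left.residueField s)
    let t : Spec (CommRingCat.of Ω) ⟶ A.base.left :=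
      Spec.map (CommRingCat.ofHom (algebraMap (A.base.left.residueField s) Ω)) ≫ A.base.left.fromSpecResidueField s
    obtain ⟨X', q, i, hP⟩ := Groth.L21.CurveScheme.exists_geomFibre A hA' Ω t
    have := (key Ω t X' q i hP).1 (h Ω t X' q i hP) default
    rw [Scheme.Hom.comp_apply] at this
    exact (Scheme.fromSpecResidueField_apply (X := A.base.left) s _) ▸ this
  · intro h Ω _ _ t X' q i hP
    exact (key Ω t X' q i hP).2 fun z => h (t z)

end Groth.L21.OpenSt
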