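import Groth.Agent.L24.St.FpAlg
import Groth.Agent.L24.Sub.OpenSub

/-!
Open substacks cut out by open conditions, for categories in any universe pair.
-/

set_option autoImplicit false
set_option backward.isDefEq.respectTransparency false
set_option backward.isDefEq.respectTransparency.types false

universe v₂ u₂ v₃ u₃ v₄ u₄ v₅ u₅ u

open CategoryTheory CategoryTheory.Limits AlgebraicGeometry Opposite AlgSt

noncomputable section

namespace Groth.L21.OpenSt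

open Groth.L24.St AlgSp

variable {S : Scheme.{u}} {𝒳 : BasedCategory.{v₂, u₂} (Over S)} {𝒴 : BasedCategory.{v₃, u₃} (Over S)}

theorem isSurjective_comp' {𝒲 : BasedCategory.{v₄, u₄} (Over S)} {f : 𝒲 ⥤ᵇ 𝒳} {g : 𝒳 ⥤ᵇ 𝒴}
    (hf : IsSurjective f) (hg : IsSurjective g) : IsSurjective (BasedFunctor.comp f g) := fun z => by
  obtain ⟨y, rfl⟩ := hg z
  obtain ⟨x, rfl⟩ := hf y
  exact ⟨x, map_comp_apply f g x⟩

section Poly

variable {P : MorphismProperty (AlgSp.Sp S)} {𝒵 : BasedCategory.{v₄, u₄} (Over S)}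

/-- Composites, given the extension of the property to base changes along spaces. -/
theorem repWith_comp_of {𝒜 ℬ : AlgSt.Cat S} (hC : PComp P) {f : 𝒜 ⥤ᵇ ℬ} {g : ℬ ⥤ᵇ 𝒵}
    (hX : ∀ ⦃G : Sp S⦄, IsAlgSpace G → ∀ z : AlgSt.ofSp G ⥤ᵇ ℬ,
      ∃ (V : Sp S) (a : V ⟶ G) (e : AlgSt.ofSp V ⥤ᵇ FibCat.fp z f),
        IsAlgSpace V ∧ FibCat.IsEquivOver e ∧
          Nonempty (BasedFunctor.comp e (FibCat.fpFst z f) ≅ AlgSt.ofSpMap a) ∧ P a)
    (hg : AlgSt.RepByAlgSpWith P g) : AlgSt.RepByAlgSpWith P (BasedFunctor.comp f g) := by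
  intro U y
  obtain ⟨G, e, he, hb⟩ := hg U y
  obtain ⟨V, a, e', hV, he', ⟨i⟩, ha⟩ := hX G.property (BasedFunctor.comp e (FibCat.fpSnd y g))
  let Θ : FibCat.fp (BasedFunctor.comp e (FibCat.fpSnd y g)) f ⥤ᵇ FibCat.fp (FibCat.fpSnd y g) f :=
    fpMap e (BasedFunctor.id _) (Iso.refl _) (Iso.refl _)
  refine ⟨⟨V, hV⟩, BasedFunctor.comp e' (BasedFunctor.comp Θ (fpComp y f g)),
    isEquivOver_comp he' (isEquivOver_comp (fpMap_isEquivOver he (isEquivOver_id _) _ _)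
      (fpComp_isEquivOver y f g)), ?_⟩
  have key : AlgSt.spMapOfOver (BasedFunctor.comp (BasedFunctor.comp e' (BasedFunctor.comp Θ (fpComp y f g)))
      (FibCat.fpFst y (BasedFunctor.comp f g))) =
      a ≫ AlgSt.spMapOfOver (BasedFunctor.comp e (FibCat.fpFst y g)) := by
    rw [← spMapOfOver_ofSpMap_comp]
    exact spMapOfOver_congr (whiskerR i (BasedFunctor.comp e (FibCat.fpFst y g)))
  rw [key]
  exact hC hV G.property (IsAlgSpace.yon_obj U) _ _ ha hb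

/-- Composites of representable functors with a property local on the base. -/
theorem repWith_comp {𝒜 ℬ : AlgSt.Cat S} {τ : CovNotion S} (hτ : HasAtlasCovers τ) (hB : PBase P) (hC : PComp P)
    (hL : IsLocalOnBase τ P) (h𝒳 : FibCat.IsFibGrpd 𝒜.p) (h𝒴 : FibCat.IsFibGrpd ℬ.p) {f : 𝒜 ⥤ᵇ ℬ}
    {g : ℬ ⥤ᵇ 𝒵} (hf : AlgSt.RepByAlgSpWith P f) (hg : AlgSt.RepByAlgSpWith P g) :
    AlgSt.RepByAlgSpWith P (BasedFunctor.comp f g) :=
  repWith_comp_of hC (fun _ hG z => Groth.L24.St.exists_space_prop hτ hB hL h𝒳 h𝒴 hf hG z) hg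


variable {𝒯 : BasedCategory.{v₅, u₅} (Over S)}

theorem cmp_repWith (f : 𝒳 ⥤ᵇ 𝒵) (g : 𝒴 ⥤ᵇ 𝒵) (t : 𝒵 ⥤ᵇ 𝒯)
    (h : AlgSt.RepByAlgSpWith P (FibCat.diag t)) : AlgSt.RepByAlgSpWith P (fpPost f g t) := by
  rw [← cmpLift_fst f g t]
  exact (repWith_precomp (cmpLift_isEquivOver f g t) _).2 (repWith_fpFst _ h)


end Poly

theorem fullSub_isFibGrpd (h𝒳 : FibCat.IsFibGrpd 𝒳.p) (Q : 𝒳.obj → Prop)
    (hQ : ∀ ⦃y x : 𝒳.obj⦄ (_ : y ⟶ x), Q x → Q y) : FibCat.IsFibGrpd (fullSub 𝒳 Q).p := by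
  let ι := subIncl 𝒳 Q
  refine ⟨fun {x V} (f : V ⟶ 𝒳.p.obj x.obj) => ?_, fun {y x} φ => ⟨fun {a'} g φ' hφ' => ?_⟩⟩
  · obtain ⟨y, φ, hφ⟩ := h𝒳.exists_lift (x := x.obj) f
    exact ⟨⟨y, hQ φ x.property⟩, ObjectProperty.homMk φ, (BasedFunctor.isHomLift_iff ι f _).1 hφ⟩
  · haveI := h𝒳.isStronglyCartesian φ.hom
    haveI : 𝒳.p.IsHomLift (g ≫ 𝒳.p.map φ.hom) φ'.hom := (BasedFunctor.isHomLift_iff ι _ φ').2 hφ'
    obtain ⟨χ, ⟨hχ, hχ'⟩, hu⟩ := Functor.IsStronglyCartesian.universal_property 𝒳.p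
      (𝒳.p.map φ.hom) φ.hom g (g ≫ 𝒳.p.map φ.hom) rfl φ'.hom
    exact ⟨ObjectProperty.homMk χ,
      ⟨(BasedFunctor.isHomLift_iff ι g (ObjectProperty.homMk χ)).1 hχ,
        ObjectProperty.hom_ext _ hχ'⟩, fun χ' hh => ObjectProperty.hom_ext _
          (hu χ'.hom ⟨(BasedFunctor.isHomLift_iff ι g χ').2 hh.1, congrArg (·.hom) hh.2⟩)⟩

theorem exists_scheme_chart {P : MorphismProperty Scheme.{u}} (hP : Groth.L23.EtLocal P) (h𝒳 : FibCat.IsFibGrpd 𝒳.p)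
    {F : AlgSp.Space S} {C : ofSp F.obj ⥤ᵇ 𝒳} (hC : RepByAlgSpWith (AlgSp.LocP P) C) (hs : IsSurjective C) :
    ∃ (W : Over S) (a : (AlgSp.yon S).obj W ⟶ F.obj), RepByAlgSpWith (AlgSp.LocP P) (BasedFunctor.comp (spChart a) C) ∧
      RepByAlgSpWith AlgSp.IsSurjectiveMor (BasedFunctor.comp (spChart a) C) := by
  obtain ⟨W, a, ha, has⟩ := F.property.atlas
  have h1 := repWith_comp hasAtlasCovers_atlasCov (pBase_locP hP) (pComp_locP hP) (isLocalOnBase_locP hP) (overCat_isFibGrpd W) (ofSp_isFibGrpd F.obj) (repWith_spChart_locP hP F.property ha) hC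
  refine ⟨W, a, h1, repWith_surjective_of_isSurjective (overCat_isFibGrpd W) h𝒳 (repWith_rep1 h1) ?_⟩
  refine (Groth.L24.St.isSurjective_iff_ofChart _).2 ?_
  rw [map_comp_ofChart]
  exact hs.comp (surjective_spChart has)

theorem diag_repWith_square {P : MorphismProperty (AlgSp.Sp S)} {𝒵 : BasedCategory.{v₄, u₄} (Over S)}
    {f f' : 𝒳 ⥤ᵇ 𝒵} (e : f' ≅ f) :
    AlgSt.RepByAlgSpWith P (FibCat.diag f) ↔ AlgSt.RepByAlgSpWith P (FibCat.diag f') :=
  repWith_square (isEquivOver_id _) (fpMap_isEquivOver (isEquivOver_id _) (isEquivOver_id _) e.symm e.symm)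
    (diagSquare (BasedFunctor.id 𝒳) e.symm)

theorem isAlgStack_of_rep1 (h𝒳 : FibCat.IsFibGrpd 𝒳.p) (h𝒴 : IsAlgStack Scheme.fppfPrecoverage 𝒴)
    (j : 𝒳 ⥤ᵇ 𝒴) (hdiag : FibCat.IsEquivOver (FibCat.diag j)) (hj : RepByAlgSp1 j) : IsAlgStack Scheme.fppfPrecoverage 𝒳 := by
  refine ⟨isStack_of_rep1 h𝒳 h𝒴.isStack j hj, ?_, ?_⟩
  · have h1 : RepByAlgSp1 (FibCat.diag (BasedFunctor.comp j (FibCat.toSelf 𝒴))) :=
      (rep1_iff _).2 ((repWith_congr (diagCompIso j (FibCat.toSelf 𝒴))).1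
        ((repWith_precomp hdiag _).2 (cmp_repWith j j _ ((rep1_iff _).1 h𝒴.diag))))
    exact (rep1_iff _).2 ((diag_repWith_square (toSelfIso j)).2 ((rep1_iff _).1 h1))
  · obtain ⟨V, y, hy, hys⟩ := h𝒴.atlas
    obtain ⟨F, e, he⟩ := hj V y
    obtain ⟨W, a, h1, h2⟩ := exists_scheme_chart Groth.L23.etLocal_smooth h𝒳 (F := F)
      (C := BasedFunctor.comp e (FibCat.fpSnd y j)) ((repWith_precomp he _).2 (repWith_fpSnd j hy))
      (isSurjective_comp' (bijective_map_of_isEquivOver he).surjective (by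
        intro p
        obtain ⟨v, hv⟩ := isSurjective_of_repWith (overCat_isFibGrpd V) h𝒴.isStack.1 hys (Points.map j p)
        obtain ⟨w, -, hw⟩ := exists_points_fp h𝒳 h𝒴.isStack.1 (overCat_isFibGrpd V) j y v p hv
        exact ⟨w, hw⟩))
    exact ⟨W, _, h1, h2⟩

theorem isOpenImm_of_chart {Q : 𝒳.obj → Prop} (hQ : ∀ ⦃y x : 𝒳.obj⦄ (_ : y ⟶ x), Q x → Q y)
    (hO : ∀ (U : Over S) (y : FibCat.overCat U ⥤ᵇ 𝒳), ∃ O : U.left.Opens, ∀ a : Over U,
      Q (y.obj a) ↔ ∀ v, a.hom.left v ∈ O) : IsOpenImm (subIncl 𝒳 Q) := by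
  intro U y
  obtain ⟨O, hy⟩ := hO U y
  let V : Over S := Over.mk (O.ι ≫ U.hom)
  let o : V ⟶ U := Over.homMk O.ι rfl
  have : Mono o := Over.mono_of_mono_left o
  let ι := subIncl 𝒳 Q
  have hmem : ∀ b, Q ((BasedFunctor.comp (overMap o) y).obj b) := fun b =>
    (hy _).2 fun v => (b.hom.left v).2
  let σ : FibCat.overCat V ⥤ᵇ fullSub 𝒳 Q :=
    { toFunctor := ObjectProperty.lift _ (BasedFunctor.comp (overMap o) y).toFunctor hmem
      w := (BasedFunctor.comp (overMap o) y).w }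
  let L := FibCat.fpLift (F := y) (G := ι) (overMap o) σ
    (show BasedFunctor.comp (overMap o) y ≅ BasedFunctor.comp σ ι from Iso.refl _)
  have hfst : (FibCat.fpFst y ι).toFunctor.Faithful := ⟨fun {η η'} {m m'} h => by
    have h' : m.hom.fst = m'.hom.fst := h
    refine fp_ext h' ((ObjectProperty.ι Q).map_injective ?_)
    rw [← cancel_epi η.obj.iso.hom]
    exact (m.hom.w.symm.trans (by rw [h'])).trans m'.hom.w⟩
  have : L.toFunctor.Faithful := ⟨fun {a b} {m m'} h =>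
    Over.OverMorphism.ext (congrArg (fun k => k.hom.fst.left) h)⟩
  have : L.toFunctor.Full := ⟨fun {a b} m => by
    let t := m.hom.fst
    have ht : t.left ≫ b.hom = a.hom := by
      rw [← cancel_mono o, Category.assoc]
      exact Over.w t
    exact ⟨Over.homMk t.left ht, hfst.map_injective (Over.OverMorphism.ext rfl)⟩⟩
  have hL : FibCat.IsEquivOver L := isEquivOver_of_overId L fun η => by
    let a : Over U := η.obj.fst
    have hQa : Q (y.obj a) := hQ η.obj.iso.hom η.obj.snd.property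
    have hr : Set.range a.hom.left ⊆ Set.range O.ι := by
      rintro - ⟨v, rfl⟩
      rw [Scheme.Opens.range_ι]
      exact (hy a).1 hQa v
    let l := IsOpenImmersion.lift O.ι a.hom.left hr
    have hl : l ≫ O.ι = a.hom.left := IsOpenImmersion.lift_fac _ _ _
    let b : Over V := Over.mk (Over.homMk l (by
      show l ≫ O.ι ≫ U.hom = a.left.hom
      rw [← Category.assoc, hl, Over.w a.hom]) : a.left ⟶ V)
    let j : (overMap o).obj b ≅ a := Over.isoMk (Iso.refl _) (by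
      refine (Category.id_comp _).trans (Over.OverMorphism.ext ?_)
      exact hl.symm)
    have hj : OverId j.hom := OverId.of_eq rfl rfl
    let i : (σ.obj b).obj ≅ η.obj.snd.obj := y.toFunctor.mapIso j ≪≫ η.obj.iso
    let i' : σ.obj b ≅ η.obj.snd := ObjectProperty.isoMk _ i
    let e : L.obj b ≅ η := fpIsoMk j i' (by
      show y.map j.hom ≫ η.obj.iso.hom = 𝟙 _ ≫ (y.map j.hom ≫ η.obj.iso.hom)
      rw [Category.id_comp])
    exact ⟨b, e, overId_fp _ hj⟩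
  refine ⟨⟨(AlgSp.yon S).obj V, AlgSp.IsAlgSpace.yon_obj V⟩, BasedFunctor.comp (toOverCat V) L,
    isEquivOver_comp (toOverCat_isEquivOver V) hL, ?_⟩
  rw [show BasedFunctor.comp (BasedFunctor.comp (toOverCat V) L) (FibCat.fpFst y ι) =
    BasedFunctor.comp (toOverCat V) (overMap o) from rfl, spMapOfOver_overMap, spMapOfOver_toOverCat,
    Category.id_comp]
  exact (AlgSp.repWith_yon_map_iff @IsOpenImmersion o).2 (inferInstanceAs (IsOpenImmersion O.ι))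

/-- The engine. -/
theorem isOpenSubstack_of_chart (h𝒳 : IsAlgStack Scheme.fppfPrecoverage 𝒳) {Q : 𝒳.obj → Prop}
    (hQ : ∀ ⦃y x : 𝒳.obj⦄ (_ : y ⟶ x), Q x → Q y)
    (hO : ∀ (U : Over S) (y : FibCat.overCat U ⥤ᵇ 𝒳), ∃ O : U.left.Opens, ∀ a : Over U,
      Q (y.obj a) ↔ ∀ v, a.hom.left v ∈ O) :
    IsOpenSubstack 𝒳 Q Scheme.fppfPrecoverage :=
  have hi := isOpenImm_of_chart hQ hO
  ⟨⟨fun e h => hQ e.inv h⟩, isAlgStack_of_rep1 (fullSub_isFibGrpd h𝒳.isStack.1 _ hQ) h𝒳 _ (haveI : (subIncl 𝒳 Q).toFunctor.Full := inferInstanceAs (ObjectProperty.ι Q).Full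
      haveI : (subIncl 𝒳 Q).toFunctor.Faithful := inferInstanceAs (ObjectProperty.ι Q).Faithful
      diag_isEquivOver_of_fullFaithful _) (repWith_rep1 hi), hi⟩

end Groth.L21.OpenSt
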