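import Groth.Agent.L21.OpenSt.Locus
import Groth.Agent.L21.GorensteinCharts
import Groth.Agent.L21.GorOpen.Main
import Groth.Agent.S3626

/-!
The Gorenstein condition at a point as a pointwise condition on families.
-/

set_option autoImplicit false
set_option backward.isDefEq.respectTransparency false

universe u

open CategoryTheory CategoryTheory.Limits AlgebraicGeometry

noncomputable section

namespace Groth.L21.OpenSt

/-- The Gorenstein condition. -/
def gorCond : PtCond.{u} := fun _ _ g x => Dual3.IsGorensteinAt g x

theorem gorCond_good : PtCond.Good gorCond.{u} where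
  source e g _ _ _ x := GorensteinCharts.isGorensteinAt_etale_comp_iff e g x
  target g φ _ _ _ x := GorensteinCharts.isGorensteinAt_comp_etale_iff g φ x
  baseChange := fun {X Y X' Y' f b f' b'} _ _ sq x =>
    Groth.Agent.S3626.result X Y X' Y' f b f' b' sq x
  isOpen g _ _ := Groth.L21.GorOpen.isOpen_gorenstein g

end Groth.L21.OpenSt
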