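import Groth.Agent.L21.OpenSt.Smooth
import Groth.Agent.L21.CurvFib.SmoothLocus
import Mathlib.AlgebraicGeometry.ZariskisMainTheorem

/-!
Having isolated singularities in the fibres, as a pointwise condition on families.
-/

set_option autoImplicit false
set_option backward.isDefEq.respectTransparency false
set_option backward.isDefEq.respectTransparency.types false

universe u

open CategoryTheory CategoryTheory.Limits AlgebraicGeometry TopologicalSpace

noncomputable section

namespace Groth.L21.OpenSt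

variable {X' X Y Z : Scheme.{u}}

/-- Near the point, the fibre is smooth away from the point. -/
def isoSingCond : PtCond.{u} := fun X _ g x =>
  ∃ U : Set X, IsOpen U ∧ x ∈ U ∧ ∀ y ∈ U, g y = g x → ¬ smCond g y → y = x

theorem isoSingCond_of_smCond (g : X ⟶ Y) [Flat g] [LocallyOfFinitePresentation g] {x : X} (h : smCond g x) :
    isoSingCond g x :=
  ⟨{y | smCond g y}, smCond_good.isOpen g, h, fun _ hy _ hy' => absurd hy hy'⟩

theorem isOpen_isoSingCond (g : X ⟶ Y) [Flat g] [LocallyOfFinitePresentation g] :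
    IsOpen {x | isoSingCond g x} := by
  let C : Closeds X := ⟨{x | ¬ smCond g x}, (smCond_good.isOpen g).isClosed_compl⟩
  let I := Scheme.IdealSheafData.vanishingIdeal C
  let ι := I.subschemeι
  have hr : Set.range ι = {x | ¬ smCond g x} := by
    rw [Scheme.IdealSheafData.range_subschemeι, Scheme.IdealSheafData.coe_support_vanishingIdeal]
    rfl
  let h : I.subscheme ⟶ Y := ι ≫ g
  have hkey : {x | isoSingCond g x} = (ι '' (h.quasiFiniteLocus : Set I.subscheme)ᶜ)ᶜ := by
    ext x
    simp only [Set.mem_setOf_eq, Set.mem_compl_iff, Set.mem_image, SetLike.mem_coe, Scheme.Hom.mem_quasiFiniteLocus]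
    constructor
    · rintro ⟨U, hU, hxU, hUx⟩ ⟨z, hz, rfl⟩
      apply hz
      rw [Scheme.Hom.quasiFiniteAt_iff_isOpen_singleton_asFiber, ← (h.fiberHomeo (h z)).isOpen_image,
        Set.image_singleton, Scheme.Hom.asFiber, Homeomorph.apply_symm_apply]
      refine isOpen_induced_iff.2 ⟨ι ⁻¹' U, hU.preimage ι.continuous, ?_⟩
      ext ⟨w, hw⟩
      simp only [Set.mem_preimage, Set.mem_singleton_iff, Subtype.mk.injEq]
      refine ⟨fun hwU => ι.isClosedEmbedding.injective (hUx _ hwU hw ?_), fun e => by rw [e]; exact hxU⟩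
      exact (Set.ext_iff.1 hr (ι w)).1 ⟨w, rfl⟩
    · intro hx
      by_cases hs : smCond g x
      · exact isoSingCond_of_smCond g hs
      obtain ⟨z, rfl⟩ : x ∈ Set.range ι := by rw [hr]; exact hs
      have hz : h.QuasiFiniteAt z := by
        by_contra hc
        exact hx ⟨z, hc, rfl⟩
      rw [Scheme.Hom.quasiFiniteAt_iff_isOpen_singleton_asFiber, ← (h.fiberHomeo (h z)).isOpen_image,
        Set.image_singleton, Scheme.Hom.asFiber, Homeomorph.apply_symm_apply] at hz
      obtain ⟨V, hV, hVz⟩ := isOpen_induced_iff.1 hz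
      obtain ⟨U, hU, rfl⟩ := ι.isClosedEmbedding.isInducing.isOpen_iff.1 hV
      refine ⟨U, hU, (Set.ext_iff.1 hVz ⟨z, rfl⟩).2 rfl, fun y hyU hy hys => ?_⟩
      obtain ⟨w, rfl⟩ : y ∈ Set.range ι := by rw [hr]; exact hys
      exact congrArg ι (congrArg Subtype.val ((Set.ext_iff.1 hVz ⟨w, hy⟩).1 hyU))
  rw [hkey]
  exact (ι.isClosedEmbedding.isClosedMap _ h.quasiFiniteLocus.isOpen.isClosed_compl).isOpen_compl

theorem isoSingCond_source_iff (e : X' ⟶ X) [Etale e] (g : X ⟶ Y) [Flat g] [LocallyOfFinitePresentation g] (x : X') :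
    isoSingCond (e ≫ g) x ↔ isoSingCond g (e x) := by
  constructor
  · rintro ⟨U, hU, hxU, hUx⟩
    refine ⟨e '' U, e.isOpenMap _ hU, ⟨x, hxU, rfl⟩, ?_⟩
    rintro _ ⟨y, hyU, rfl⟩ hy hys
    rw [← Scheme.Hom.comp_apply, ← Scheme.Hom.comp_apply] at hy
    exact congrArg e (hUx y hyU hy fun hs => hys ((smCond_good.source e g y).1 hs))
  · rintro ⟨U, hU, hxU, hUx⟩
    have hd := e.isDiscrete_preimage_singleton (e x)
    obtain ⟨N, hN, hNx⟩ := isOpen_induced_iff.1
      (@isOpen_discrete _ _ hd.to_subtype {(⟨x, rfl⟩ : (e ⁻¹' {e x} : Set X'))})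
    refine ⟨e ⁻¹' U ∩ N, (hU.preimage e.continuous).inter hN, ⟨hxU, (Set.ext_iff.1 hNx ⟨x, rfl⟩).2 rfl⟩, ?_⟩
    rintro y ⟨hyU, hyN⟩ hy hys
    rw [Scheme.Hom.comp_apply, Scheme.Hom.comp_apply] at hy
    have he : e y = e x := hUx _ hyU hy fun hs => hys ((smCond_good.source e g y).2 hs)
    exact congrArg Subtype.val ((Set.ext_iff.1 hNx ⟨y, he⟩).1 hyN)

theorem isoSingCond_target_iff (g : X ⟶ Y) (φ : Y ⟶ Z) [Etale φ] [Flat g] [LocallyOfFinitePresentation g] (x : X) :
    isoSingCond (g ≫ φ) x ↔ isoSingCond g x := by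
  constructor
  · rintro ⟨U, hU, hxU, hUx⟩
    refine ⟨U, hU, hxU, fun y hyU hy hys => hUx y hyU ?_ fun hs => hys ((smCond_good.target g φ y).1 hs)⟩
    rw [Scheme.Hom.comp_apply, Scheme.Hom.comp_apply, hy]
  · rintro ⟨U, hU, hxU, hUx⟩
    have hd := φ.isDiscrete_preimage_singleton (φ (g x))
    obtain ⟨N, hN, hNx⟩ := isOpen_induced_iff.1
      (@isOpen_discrete _ _ hd.to_subtype {(⟨g x, rfl⟩ : (φ ⁻¹' {φ (g x)} : Set Y))})
    refine ⟨U ∩ g ⁻¹' N, hU.inter (hN.preimage g.continuous), ⟨hxU, (Set.ext_iff.1 hNx ⟨g x, rfl⟩).2 rfl⟩, ?_⟩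
    rintro y ⟨hyU, hyN⟩ hy hys
    rw [Scheme.Hom.comp_apply, Scheme.Hom.comp_apply] at hy
    have he : g y = g x := congrArg Subtype.val ((Set.ext_iff.1 hNx ⟨g y, hy⟩).1 hyN)
    exact hUx y hyU he fun hs => hys ((smCond_good.target g φ y).2 hs)

theorem isoSingCond_baseChange {Y' : Scheme.{u}} {f : X ⟶ Y} {b : Y' ⟶ Y} {f' : X' ⟶ Y'} {b' : X' ⟶ X}
    [Flat f] [LocallyOfFinitePresentation f] (sq : IsPullback b' f' f b) (x : X') :
    isoSingCond f' x ↔ isoSingCond f (b' x) := by
  have hcomm : ∀ y : X', f (b' y) = b (f' y) := fun y => by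
    rw [← Scheme.Hom.comp_apply, sq.w, Scheme.Hom.comp_apply]
  haveI : Flat f' := MorphismProperty.of_isPullback sq inferInstance
  haveI : LocallyOfFinitePresentation f' := MorphismProperty.of_isPullback sq inferInstance
  constructor
  · rintro ⟨U, hU, hxU, hUx⟩
    let s := f (b' x)
    -- the fibre upstairs is an open image of the fibre downstairs
    have hb : b (f' x) = s := (hcomm x).symm
    let φ : Y.residueField (b (f' x)) ⟶ Y'.residueField (f' x) := b.residueFieldMap (f' x)
    have sqF : IsPullback (f'.fiberι (f' x) ≫ b') (f'.fiberToSpecResidueField (f' x)) f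
        (Spec.map φ ≫ Y.fromSpecResidueField (b (f' x))) := by
      have h0 := (IsPullback.of_hasPullback f' (Y'.fromSpecResidueField (f' x))).paste_horiz sq
      rwa [← Scheme.Hom.SpecMap_residueFieldMap_fromSpecResidueField] at h0
    have sqS : IsPullback (f.fiberι (b (f' x))) (f.fiberToSpecResidueField (b (f' x))) f
        (Y.fromSpecResidueField (b (f' x))) := IsPullback.of_hasPullback _ _
    let m := sqS.lift (f'.fiberι (f' x) ≫ b') (f'.fiberToSpecResidueField (f' x) ≫ Spec.map φ)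
      (sqF.w.trans (Category.assoc _ _ _).symm)
    have hm : IsPullback m (f'.fiberToSpecResidueField (f' x)) (f.fiberToSpecResidueField (b (f' x))) (Spec.map φ) :=
      IsPullback.of_right (by rw [IsPullback.lift_fst]; exact sqF) (sqS.lift_snd _ _ _) sqS
    haveI : UniversallyOpen (Spec.map φ) := inferInstance
    haveI : UniversallyOpen m := MorphismProperty.of_isPullback hm.flip inferInstance
    obtain ⟨U₀, hU₀, hU₀m⟩ := (f.fiberι (b (f' x))).isEmbedding.isInducing.isOpen_iff.1
      (m.isOpenMap _ (hU.preimage (f'.fiberι (f' x)).continuous))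
    have hfac : ∀ p, f.fiberι (b (f' x)) (m p) = b' (f'.fiberι (f' x) p) := fun p => by
      rw [← Scheme.Hom.comp_apply, IsPullback.lift_fst, Scheme.Hom.comp_apply]
    refine ⟨U₀, hU₀, ?_, fun y hyU hy hys => ?_⟩
    · have hx₀ : m (f'.asFiber x) ∈ m '' (f'.fiberι (f' x) ⁻¹' U) :=
        ⟨_, by rw [Set.mem_preimage, f'.fiberι_asFiber]; exact hxU, rfl⟩
      rw [← hU₀m, Set.mem_preimage, hfac, f'.fiberι_asFiber] at hx₀
      exact hx₀
    · obtain ⟨w, rfl⟩ : y ∈ Set.range (f.fiberι (b (f' x))) := by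
        rw [Scheme.Hom.range_fiberι]
        exact hy.trans (hcomm x)
      obtain ⟨p, hpU, rfl⟩ : w ∈ m '' (f'.fiberι (f' x) ⁻¹' U) := by rw [← hU₀m]; exact hyU
      rw [hfac] at hys ⊢
      refine congrArg b' (hUx _ hpU ?_ fun hs => hys ((smCond_good.baseChange sq _).1 hs))
      exact Set.ext_iff.1 (Scheme.Hom.range_fiberι f' (f' x)) _ |>.1 ⟨p, rfl⟩
  · rintro ⟨U, hU, hxU, hUx⟩
    by_cases hs : smCond f' x
    · exact isoSingCond_of_smCond f' hs
    have hs' : ¬ smCond f (b' x) := fun h => hs ((smCond_good.baseChange sq x).2 h)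
    let C : Closeds X := ⟨{y | ¬ smCond f y}, (smCond_good.isOpen f).isClosed_compl⟩
    let I := Scheme.IdealSheafData.vanishingIdeal C
    let ι := I.subschemeι
    have hr : Set.range ι = {y | ¬ smCond f y} := by
      rw [Scheme.IdealSheafData.range_subschemeι, Scheme.IdealSheafData.coe_support_vanishingIdeal]
      rfl
    obtain ⟨z, hz⟩ : b' x ∈ Set.range ι := by rw [hr]; exact hs'
    let h : I.subscheme ⟶ Y := ι ≫ f
    have hqf : h.QuasiFiniteAt z := by
      rw [Scheme.Hom.quasiFiniteAt_iff_isOpen_singleton_asFiber, ← (h.fiberHomeo (h z)).isOpen_image,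
        Set.image_singleton, Scheme.Hom.asFiber, Homeomorph.apply_symm_apply]
      refine isOpen_induced_iff.2 ⟨ι ⁻¹' U, hU.preimage ι.continuous, ?_⟩
      ext ⟨w, hw⟩
      simp only [Set.mem_preimage, Set.mem_singleton_iff, Subtype.mk.injEq]
      refine ⟨fun hwU => ι.isClosedEmbedding.injective ?_, fun e => by rw [e, hz]; exact hxU⟩
      rw [hz]
      exact hUx _ hwU ((show f (ι w) = f (ι z) from hw).trans (congrArg f hz))
        ((Set.ext_iff.1 hr (ι w)).1 ⟨w, rfl⟩)
    let V := h.quasiFiniteLocus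
    haveI : LocallyQuasiFinite (V.ι ≫ h) := inferInstance
    let k : (V : Scheme) ⟶ X := V.ι ≫ ι
    obtain ⟨w, hw₁, hw₂⟩ := Scheme.Pullback.exists_preimage_pullback (f := k) (g := b') (⟨z, hqf⟩ : V) x
      (by rw [Scheme.Hom.comp_apply]; exact hz)
    haveI : LocallyQuasiFinite (pullback.snd k b' ≫ f') :=
      MorphismProperty.of_isPullback ((IsPullback.of_hasPullback k b').paste_vert sq)
        (by rw [Category.assoc]; infer_instance)
    have hd := (pullback.snd k b' ≫ f').isDiscrete_preimage_singleton ((pullback.snd k b' ≫ f') w)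
    obtain ⟨N, hN, hNw⟩ := isOpen_induced_iff.1 (@isOpen_discrete _ _ hd.to_subtype {(⟨w, rfl⟩ :
      ((pullback.snd k b' ≫ f') ⁻¹' {(pullback.snd k b' ≫ f') w} : Set ↥(pullback k b')))})
    obtain ⟨W, hW, rfl⟩ := (pullback.snd k b').isEmbedding.isInducing.isOpen_iff.1 hN
    refine ⟨W ∩ b' ⁻¹' U, hW.inter (hU.preimage b'.continuous),
      ⟨hw₂ ▸ (Set.ext_iff.1 hNw ⟨w, rfl⟩).2 rfl, hxU⟩, ?_⟩
    rintro y ⟨hyW, hyU⟩ hy hys
    have hby : b' y = b' x := hUx _ hyU (by rw [hcomm, hcomm, hy])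
      fun h => hys ((smCond_good.baseChange sq y).2 h)
    obtain ⟨p, -, hp⟩ := Scheme.Pullback.exists_preimage_pullback (f := k) (g := b') (⟨z, hqf⟩ : V) y
      (by rw [Scheme.Hom.comp_apply]; exact hz.trans hby.symm)
    have hpw : p = w := congrArg Subtype.val ((Set.ext_iff.1 hNw ⟨p, by
      rw [Set.mem_preimage, Set.mem_singleton_iff, Scheme.Hom.comp_apply, Scheme.Hom.comp_apply, hp, hw₂, hy]⟩).1
      (show pullback.snd k b' p ∈ W by rw [hp]; exact hyW))
    rw [← hp, hpw, hw₂]

theorem isoSingCond_good : PtCond.Good isoSingCond.{u} where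
  source e g _ _ _ x := isoSingCond_source_iff e g x
  target g φ _ _ _ x := isoSingCond_target_iff g φ x
  baseChange := fun {_ _ _ _ _ _ _ _} _ _ sq x => isoSingCond_baseChange sq x
  isOpen g _ _ := isOpen_isoSingCond g

/-- Over a field, finitely many singular points means that all are isolated. -/
theorem finite_singSet_iff {k : Type u} [Field k] (q : X ⟶ Spec (CommRingCat.of k)) [LocallyOfFiniteType q]
    [CompactSpace X] : (CurvFib.singSet q).Finite ↔ ∀ x, isoSingCond q x := by
  haveI : Flat q := inferInstance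
  haveI : IsLocallyNoetherian (Spec (CommRingCat.of k)) := inferInstance
  haveI : LocallyOfFinitePresentation q := inferInstance
  have hiff : ∀ x, x ∈ CurvFib.singSet q ↔ ¬ smCond q x := fun x => (smCond_iff q x).not.symm
  have hall : ∀ a b : X, q a = q b := fun a b => Subsingleton.elim (α := PrimeSpectrum k) _ _
  constructor
  · intro h x
    haveI : JacobsonSpace X := LocallyOfFiniteType.jacobsonSpace q
    have heq : CurvFib.singSet q = CurvFib.singSet q ∩ closedPoints X := by
      refine (closure_inter_closedPoints (CurvFib.isClosed_singSet q)).symm.trans (IsClosed.closure_eq ?_)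
      rw [← Set.biUnion_of_singleton (CurvFib.singSet q ∩ closedPoints X)]
      exact (h.inter_of_left _).isClosed_biUnion fun y hy => hy.2
    refine ⟨(CurvFib.singSet q \ {x})ᶜ, ?_, fun hx => hx.2 rfl, fun y hy _ hys => ?_⟩
    · rw [← Set.biUnion_of_singleton (CurvFib.singSet q \ {x})]
      exact ((h.sdiff).isClosed_biUnion fun y hy => ((Set.ext_iff.1 heq y).1 hy.1).2).isOpen_compl
    · by_contra hne
      exact hy ⟨(hiff y).2 hys, hne⟩
  · intro h
    choose U hU hxU hUx using h
    obtain ⟨T, hT⟩ := isCompact_univ.elim_finite_subcover U hU fun x _ => Set.mem_iUnion.2 ⟨x, hxU x⟩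
    refine T.finite_toSet.subset fun y hy => ?_
    obtain ⟨x, hxT, hyx⟩ := Set.mem_iUnion₂.1 (hT (Set.mem_univ y))
    rwa [hUx x y hyx (hall y x) ((hiff y).1 hy)]

end Groth.L21.OpenSt
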