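import Groth.Agent.L21.OpenSt.Locus
import Groth.Agent.L09.LciMor.Near
import Groth.Agent.L14.KoszulFib.Scheme

/-!
The Koszul condition at a point as a pointwise condition on families.
-/

set_option autoImplicit false
set_option backward.isDefEq.respectTransparency false

universe u

open CategoryTheory CategoryTheory.Limits AlgebraicGeometry TopologicalSpace

noncomputable section

namespace Groth.L21.OpenSt

open Groth.L09.LciMor

variable {X' X Y Y' Z : Scheme.{u}}

/-- The Koszul condition. -/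
def lciCond : PtCond.{u} := fun _ _ g x => Synt.IsKoszulAt g x

theorem lciCond_source_iff (e : X' ⟶ X) [Etale e] (g : X ⟶ Y) (x : X') : lciCond (e ≫ g) x ↔ lciCond g (e x) := by
  refine ⟨fun h => ?_, fun h => Groth.L07.KoszulChart.isKoszulAt_comp e g x (lci_of_etale e inferInstance x) h⟩
  let U : X'.Opens := ⟨{z | Synt.IsKoszulAt (e ≫ g) z}, isOpen_koszulLocus _⟩
  let W : X.Opens := ⟨⇑e '' U, e.isOpenMap _ U.2⟩
  have hr : Set.range (U.ι ≫ e) ⊆ Set.range W.ι := by
    rintro _ ⟨z, rfl⟩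
    rw [Scheme.Opens.range_ι]
    exact ⟨z.1, z.2, rfl⟩
  let χ := IsOpenImmersion.lift W.ι (U.ι ≫ e) hr
  have hχ : χ ≫ W.ι = U.ι ≫ e := IsOpenImmersion.lift_fac _ _ _
  haveI : Etale (χ ≫ W.ι) := by rw [hχ]; infer_instance
  haveI : Etale χ := Etale.of_comp χ W.ι
  haveI : Surjective χ := ⟨fun w => by
    obtain ⟨z, hz, hzw⟩ := w.2
    refine ⟨⟨z, hz⟩, W.ι.isOpenEmbedding.injective ?_⟩
    rw [← Scheme.Hom.comp_apply, hχ]
    exact hzw⟩
  have hW : AlgSp.lci (W.ι ≫ g) := lci_desc χ _ fun z => by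
    rw [← Category.assoc, hχ, Category.assoc]
    exact Groth.L07.KoszulChart.isKoszulAt_comp U.ι _ z (lci_of_etale U.ι inferInstance z) z.2
  exact isKoszulAt_of_openImmersion W.ι g ⟨e x, x, h, rfl⟩ (hW _)

theorem lciCond_target_iff (g : X ⟶ Y) (φ : Y ⟶ Z) [Etale φ] (x : X) : lciCond (g ≫ φ) x ↔ lciCond g x :=
  ⟨fun h => Groth.L07.RegImmAt.isKoszulAt_of_comp_smooth g φ x h,
    fun h => Groth.L07.KoszulChart.isKoszulAt_comp g φ x h (lci_of_etale φ inferInstance _)⟩

theorem lciCond_baseChange {f : X ⟶ Y} {b : Y' ⟶ Y} {f' : X' ⟶ Y'} {b' : X' ⟶ X} [Flat f]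
    [LocallyOfFinitePresentation f] (sq : IsPullback b' f' f b) (x : X') : lciCond f' x ↔ lciCond f (b' x) := by
  haveI : Flat (f ≫ 𝟙 Y) := by rw [Category.comp_id]; infer_instance
  haveI : LocallyOfFinitePresentation (f ≫ 𝟙 Y) := by rw [Category.comp_id]; infer_instance
  exact Groth.L14.KoszulFib.isKoszulAt_iff_baseChange f (𝟙 Y) b b (𝟙 Y')
    (IsPullback.of_vert_isIso ⟨by simp⟩) b' f' (by simpa using sq) sq.w x

theorem lciCond_good : PtCond.Good lciCond.{u} where
  source e g _ _ _ x := lciCond_source_iff e g x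
  target g φ _ _ _ x := lciCond_target_iff g φ x
  baseChange := fun sq x => lciCond_baseChange sq x
  isOpen g _ _ := isOpen_koszulLocus g

end Groth.L21.OpenSt
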